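import Groth.Agent.HMSec.Points
import Groth.Agent.HMTransLib.Translate

/-! Vectors of a linearised line bundle over valued points: scaling, coordinates and homogeneous functions. -/

set_option autoImplicit false
set_option linter.unusedSectionVars false
set_option backward.isDefEq.respectTransparency false
set_option backward.isDefEq.respectTransparency.types false

universe u

open CategoryTheory CategoryTheory.Limits MonoidalCategory CartesianMonoidalCategory MonObj GrpObj AlgebraicGeometry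
open Opposite TopologicalSpace
open Groth.Agent.GrpSchLib.Kunneth (Fn ev pullFn)

namespace Groth.Agent.HMSec

variable {k : Type u} [Field k] {G X : Over (Spec (CommRingCat.of k))} [GrpObj G]
variable {a : AlgGrp.Action G X} (B : GLinSh.LinBun G a)
variable {R R' : Type u} [CommRing R] [Algebra k R] [CommRing R'] [Algebra k R']

theorem lval_evalFn {U : X.left.Opens} (y : Γ(B.V.left, B.π.left ⁻¹ᵁ U)) (v : VecGrp.pt k R ⟶ B.V)
    (h : ⊤ ≤ v.left ⁻¹ᵁ (B.π.left ⁻¹ᵁ U)) :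
    lval v _ h y = (Scheme.ΓSpecIso (CommRingCat.of R)).hom (HMNum.evalFn B.π y v h) := rfl

theorem top_le_of_comp (v : VecGrp.pt k R ⟶ B.V) {U : X.left.Opens} :
    (⊤ ≤ v.left ⁻¹ᵁ (B.π.left ⁻¹ᵁ U)) ↔ ⊤ ≤ (v ≫ B.π).left ⁻¹ᵁ U := Iff.rfl

theorem top_le_of_base {v v' : VecGrp.pt k R ⟶ B.V} (e : v' ≫ B.π = v ≫ B.π) {U : X.left.Opens}
    (h : ⊤ ≤ v.left ⁻¹ᵁ (B.π.left ⁻¹ᵁ U)) : ⊤ ≤ v'.left ⁻¹ᵁ (B.π.left ⁻¹ᵁ U) := by
  rw [top_le_of_comp] at h ⊢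
  rw [e]
  exact h

theorem exists_chart [IsLocalRing R] (x : VecGrp.pt k R ⟶ X) :
    ∃ (U : X.left.Opens) (y : Γ(B.V.left, B.π.left ⁻¹ᵁ U)), y ∈ B.atlas.chart U ∧ ⊤ ≤ x.left ⁻¹ᵁ U := by
  obtain ⟨U, hxU, y, hy⟩ := B.atlas.cover (x.left.base (IsLocalRing.closedPoint R))
  exact ⟨U, y, hy, top_le_of_closedPoint x hxU⟩

/-- Change of coordinates at a point. -/
theorem coord_change {U U' : X.left.Opens} {y : Γ(B.V.left, B.π.left ⁻¹ᵁ U)} {y' : Γ(B.V.left, B.π.left ⁻¹ᵁ U')}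
    (hy : y ∈ B.atlas.chart U) (hy' : y' ∈ B.atlas.chart U') (x : VecGrp.pt k R ⟶ X)
    (hU : ⊤ ≤ x.left ⁻¹ᵁ U) (hU' : ⊤ ≤ x.left ⁻¹ᵁ U') :
    ∃ c : Rˣ, ∀ (v : VecGrp.pt k R ⟶ B.V), v ≫ B.π = x → ∀ h h',
      lval v (B.π.left ⁻¹ᵁ U') h' y' = c * lval v (B.π.left ⁻¹ᵁ U) h y := by
  obtain ⟨c, hcu, hc⟩ := B.atlas.linear U U' y y' hy hy'
  have hW : ⊤ ≤ x.left ⁻¹ᵁ (U ⊓ U') := fun t ht => ⟨hU ht, hU' ht⟩
  refine ⟨(hcu.map (lval x _ hW)).unit, fun v hv h h' => ?_⟩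
  subst hv
  have e := congrArg (lval v (B.π.left ⁻¹ᵁ (U ⊓ U')) hW) hc
  rw [map_mul, lval_res v (B.π.left.preimage_mono inf_le_right) hW,
    lval_res v (B.π.left.preimage_mono inf_le_left) hW] at e
  rw [e, IsUnit.unit_spec, lval_comp v B.π (U ⊓ U') hW hW c]

/-- `v'` is `s` times `v` in the fibre. -/
structure Rel (s : R) (v v' : VecGrp.pt k R ⟶ B.V) : Prop where
  base : v' ≫ B.π = v ≫ B.π
  coord : ∀ (U : X.left.Opens) (y : Γ(B.V.left, B.π.left ⁻¹ᵁ U)), y ∈ B.atlas.chart U →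
    ∀ (h : ⊤ ≤ v.left ⁻¹ᵁ (B.π.left ⁻¹ᵁ U)) (h' : ⊤ ≤ v'.left ⁻¹ᵁ (B.π.left ⁻¹ᵁ U)),
      lval v' _ h' y = s * lval v _ h y

/-- A vector which spans its fibre. -/
def Gd (v : VecGrp.pt k R ⟶ B.V) : Prop :=
  ∀ (U : X.left.Opens) (y : Γ(B.V.left, B.π.left ⁻¹ᵁ U)), y ∈ B.atlas.chart U →
    ∀ h : ⊤ ≤ v.left ⁻¹ᵁ (B.π.left ⁻¹ᵁ U), IsUnit (lval v _ h y)

theorem rel_of_chart {U : X.left.Opens} {y : Γ(B.V.left, B.π.left ⁻¹ᵁ U)} (hy : y ∈ B.atlas.chart U) {s : R}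
    {v v' : VecGrp.pt k R ⟶ B.V} (e : v' ≫ B.π = v ≫ B.π) (h : ⊤ ≤ v.left ⁻¹ᵁ (B.π.left ⁻¹ᵁ U))
    (h' : ⊤ ≤ v'.left ⁻¹ᵁ (B.π.left ⁻¹ᵁ U)) (hs : lval v' _ h' y = s * lval v _ h y) : Rel B s v v' := by
  refine ⟨e, fun U₁ y₁ hy₁ h₁ h₁' => ?_⟩
  obtain ⟨c, hc⟩ := coord_change B hy hy₁ (v ≫ B.π) h h₁
  rw [hc v' e h' h₁', hc v rfl h h₁, hs]
  ring

theorem gd_of_chart {U : X.left.Opens} {y : Γ(B.V.left, B.π.left ⁻¹ᵁ U)} (hy : y ∈ B.atlas.chart U)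
    {v : VecGrp.pt k R ⟶ B.V} (h : ⊤ ≤ v.left ⁻¹ᵁ (B.π.left ⁻¹ᵁ U)) (hu : IsUnit (lval v _ h y)) : Gd B v := by
  intro U₁ y₁ hy₁ h₁
  obtain ⟨c, hc⟩ := coord_change B hy hy₁ (v ≫ B.π) h h₁
  rw [hc v rfl h h₁]
  exact c.isUnit.mul hu

/-- A point of the bundle with prescribed coordinate. -/
theorem exists_point [IsLocalRing R] (x : VecGrp.pt k R ⟶ X) {U : X.left.Opens}
    {y : Γ(B.V.left, B.π.left ⁻¹ᵁ U)} (hy : y ∈ B.atlas.chart U) (hU : ⊤ ≤ x.left ⁻¹ᵁ U) (r : R) :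
    ∃ (v : VecGrp.pt k R ⟶ B.V), v ≫ B.π = x ∧ ∀ h, lval v (B.π.left ⁻¹ᵁ U) h y = r := by
  obtain ⟨W, hW, hWU, hxW⟩ := exists_open_affine x hU
  have : IsAffineHom B.π.left := B.atlas.affine
  let hW' := hW.preimage B.π.left
  let e := RingEquiv.ofBijective _ (B.atlas.coord U y hy W hW hWU)
  let ψ : Γ(B.V.left, B.π.left ⁻¹ᵁ W) →+* R :=
    (Polynomial.eval₂RingHom (lval x W hxW) r).comp e.symm.toRingHom
  have hψπ : ψ.comp (B.π.left.app W).hom = lval x W hxW := RingHom.ext fun c => by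
    have he : e.symm (B.π.left.app W c) = Polynomial.C c :=
      e.injective (by simp [e])
    show Polynomial.eval₂ (lval x W hxW) r (e.symm (B.π.left.app W c)) = _
    rw [he, Polynomial.eval₂_C]
  let q := Spec.map (CommRingCat.ofHom ψ) ≫ hW'.fromSpec
  have hq : q ≫ B.π.left = x.left := by
    rw [← left_eq_fromSpec x hW hxW, ← hψπ, Category.assoc,
      ← hW.SpecMap_appLE_fromSpec B.π.left hW' le_rfl, ← Scheme.Hom.app_eq_appLE, ← Category.assoc, ← Spec.map_comp]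
    rfl
  let v : VecGrp.pt k R ⟶ B.V := Over.homMk q (by rw [← Over.w B.π, ← Category.assoc, hq, Over.w x])
  have hv : v ≫ B.π = x := Over.OverMorphism.ext hq
  have hvW : ⊤ ≤ v.left ⁻¹ᵁ (B.π.left ⁻¹ᵁ W) := by rw [top_le_of_comp, hv]; exact hxW
  have hval : lval v _ hvW = ψ := by
    have h1 := left_eq_fromSpec v hW' hvW
    exact congrArg CommRingCat.Hom.hom (Spec.map_injective ((cancel_mono hW'.fromSpec).mp h1))
  refine ⟨v, hv, fun h => ?_⟩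
  rw [← lval_res v (B.π.left.preimage_mono hWU) hvW y, hval]
  have he : e.symm (GLinSh.res B.π hWU y) = Polynomial.X := e.injective (by simp [e])
  show Polynomial.eval₂ (lval x W hxW) r (e.symm (GLinSh.res B.π hWU y)) = r
  rw [he, Polynomial.eval₂_X]

theorem exists_gd [IsLocalRing R] (x : VecGrp.pt k R ⟶ X) : ∃ v : VecGrp.pt k R ⟶ B.V, v ≫ B.π = x ∧ Gd B v := by
  obtain ⟨U, y, hy, hU⟩ := exists_chart B x
  obtain ⟨v, hv, h1⟩ := exists_point B x hy hU 1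
  have h : ⊤ ≤ v.left ⁻¹ᵁ (B.π.left ⁻¹ᵁ U) := by rw [top_le_of_comp, hv]; exact hU
  exact ⟨v, hv, gd_of_chart B hy h (by rw [h1]; exact isUnit_one)⟩

theorem exists_rel [IsLocalRing R] {v v' : VecGrp.pt k R ⟶ B.V} (hv : Gd B v) (e : v' ≫ B.π = v ≫ B.π) :
    ∃ s, Rel B s v v' ∧ (Gd B v' → IsUnit s) := by
  obtain ⟨U, y, hy, hU⟩ := exists_chart B (v ≫ B.π)
  have h : ⊤ ≤ v.left ⁻¹ᵁ (B.π.left ⁻¹ᵁ U) := hU
  have h' := top_le_of_base B e h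
  obtain ⟨c, hc⟩ := hv U y hy h
  refine ⟨lval v' _ h' y * ↑c⁻¹, rel_of_chart B hy e h h' ?_, fun hv' => (hv' U y hy h').mul (Units.isUnit _)⟩
  rw [_root_.mul_assoc, ← hc, Units.inv_mul, _root_.mul_one]

theorem rel_one (v : VecGrp.pt k R ⟶ B.V) : Rel B 1 v v := ⟨rfl, fun _ _ _ _ _ => (_root_.one_mul _).symm⟩

theorem act_π {T : Over (Spec (CommRingCat.of k))} (g : T ⟶ G) (v : T ⟶ B.V) :
    (lift g v ≫ B.lift.act) ≫ B.π = lift g (v ≫ B.π) ≫ a.act := by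
  rw [Category.assoc, B.lift_π, lift_whiskerLeft_assoc]

/-- The linearity of the lifted action at a valued point. -/
theorem exists_coeff {U U' : X.left.Opens} {y : Γ(B.V.left, B.π.left ⁻¹ᵁ U)} {y' : Γ(B.V.left, B.π.left ⁻¹ᵁ U')}
    (hy : y ∈ B.atlas.chart U) (hy' : y' ∈ B.atlas.chart U') (g : VecGrp.pt k R ⟶ G) (x : VecGrp.pt k R ⟶ X)
    (hU : ⊤ ≤ x.left ⁻¹ᵁ U) (hU' : ⊤ ≤ (lift g x ≫ a.act).left ⁻¹ᵁ U') :
    ∃ C : R, ∀ (v : VecGrp.pt k R ⟶ B.V), v ≫ B.π = x → ∀ h h',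
      lval (lift g v ≫ B.lift.act) (B.π.left ⁻¹ᵁ U') h' y' = C * lval v (B.π.left ⁻¹ᵁ U) h y := by
  obtain ⟨C, hC⟩ := HMTransLib.evalFn_act B hy hy' g x (top_le_iff.mp hU) (top_le_iff.mp hU')
  exact ⟨(Scheme.ΓSpecIso (CommRingCat.of R)).hom C, fun v hv h h' => by
    rw [lval_evalFn, lval_evalFn, hC v hv h' h]
    exact map_mul _ _ _⟩

theorem Rel.act [IsLocalRing R] {s : R} {v v' : VecGrp.pt k R ⟶ B.V} (h : Rel B s v v') (g : VecGrp.pt k R ⟶ G) :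
    Rel B s (lift g v ≫ B.lift.act) (lift g v' ≫ B.lift.act) := by
  obtain ⟨U, y, hy, hU⟩ := exists_chart B (v ≫ B.π)
  obtain ⟨U', y', hy', hU'⟩ := exists_chart B (lift g (v ≫ B.π) ≫ a.act)
  obtain ⟨C, hC⟩ := exists_coeff B hy hy' g (v ≫ B.π) hU hU'
  have h1 : ⊤ ≤ (lift g v ≫ B.lift.act).left ⁻¹ᵁ (B.π.left ⁻¹ᵁ U') := by rw [top_le_of_comp, act_π]; exact hU'
  have h2 : ⊤ ≤ (lift g v' ≫ B.lift.act).left ⁻¹ᵁ (B.π.left ⁻¹ᵁ U') := by
    rw [top_le_of_comp, act_π, h.base]; exact hU'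
  refine rel_of_chart B hy' (by rw [act_π, act_π, h.base]) h1 h2 ?_
  rw [hC v rfl hU h1, hC v' h.base (top_le_of_base B h.base hU) h2, h.coord U y hy hU]
  ring

theorem Gd.act [IsLocalRing R] {v : VecGrp.pt k R ⟶ B.V} (hv : Gd B v) (g : VecGrp.pt k R ⟶ G) :
    Gd B (lift g v ≫ B.lift.act) := by
  obtain ⟨U, y, hy, hU⟩ := exists_chart B (v ≫ B.π)
  obtain ⟨U', y', hy', hU'⟩ := exists_chart B (lift g (v ≫ B.π) ≫ a.act)
  let w := lift g v ≫ B.lift.act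
  have hw : w ≫ B.π = lift g (v ≫ B.π) ≫ a.act := act_π B g v
  have e : lift g⁻¹ w ≫ B.lift.act = v := by rw [GrpSchLib.act_mul, inv_mul_cancel, GrpSchLib.act_one]
  have eb : lift g⁻¹ (w ≫ B.π) ≫ a.act = v ≫ B.π := by rw [hw, GrpSchLib.act_mul, inv_mul_cancel, GrpSchLib.act_one]
  have h1 : ⊤ ≤ w.left ⁻¹ᵁ (B.π.left ⁻¹ᵁ U') := by rw [top_le_of_comp, hw]; exact hU'
  obtain ⟨C, hC⟩ := exists_coeff B hy' hy g⁻¹ (w ≫ B.π) h1 (by rw [eb]; exact hU)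
  have h2 := hC w rfl h1 (by rw [e]; exact hU)
  rw [lval_congr e (B.π.left ⁻¹ᵁ U) (by rw [e]; exact hU) hU] at h2
  exact gd_of_chart B hy' h1 (isUnit_of_mul_isUnit_right (h2 ▸ hv U y hy hU))

theorem Rel.map [IsLocalRing R] {s : R} {v v' : VecGrp.pt k R ⟶ B.V} (h : Rel B s v v') (φ : R →ₐ[k] R') :
    Rel B (φ s) (VecGrp.ptMap φ ≫ v) (VecGrp.ptMap φ ≫ v') := by
  obtain ⟨U, y, hy, hU⟩ := exists_chart B (v ≫ B.π)
  have h1 : ⊤ ≤ v.left ⁻¹ᵁ (B.π.left ⁻¹ᵁ U) := hU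
  have h2 := top_le_of_base B h.base h1
  have hpre : ∀ (p : VecGrp.pt k R ⟶ B.V) (V : B.V.left.Opens), ⊤ ≤ p.left ⁻¹ᵁ V →
      ⊤ ≤ (VecGrp.ptMap φ ≫ p).left ⁻¹ᵁ V := fun p V hp t _ => hp (Set.mem_univ _)
  refine rel_of_chart B hy (by rw [Category.assoc, h.base, ← Category.assoc]) (hpre v _ h1) (hpre v' _ h2) ?_
  rw [lval_ptMap φ v _ h1, lval_ptMap φ v' _ h2, h.coord U y hy h1, map_mul]

theorem Gd.map [IsLocalRing R] {v : VecGrp.pt k R ⟶ B.V} (hv : Gd B v) (φ : R →ₐ[k] R') :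
    Gd B (VecGrp.ptMap φ ≫ v) := by
  obtain ⟨U, y, hy, hU⟩ := exists_chart B (v ≫ B.π)
  have h1 : ⊤ ≤ v.left ⁻¹ᵁ (B.π.left ⁻¹ᵁ U) := hU
  refine gd_of_chart B hy (fun t _ => h1 (Set.mem_univ _)) ?_
  rw [lval_ptMap φ v _ h1]
  exact (hv U y hy h1).map φ

/-- Functions homogeneous of degree `n` on the fibres, tested at points with values in fields. -/
def IsHom (n : ℕ) (f : Fn B.V) : Prop :=
  ∀ (K : Type u) [Field K] [Algebra k K] (s : K) (v v' : VecGrp.pt k K ⟶ B.V), Rel B s v v' →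
    pullFn v' f = s ^ n * pullFn v f

theorem IsHom.pow {n : ℕ} {f : Fn B.V} (h : IsHom B n f) (m : ℕ) : IsHom B (n * m) (f ^ m) := by
  intro K _ _ s v v' hs
  rw [map_pow, map_pow, h K s v v' hs, mul_pow, pow_mul]

theorem pullFn_weight {n : ℕ} {f : Fn B.V} (hf : GLinSh.HasWeight B.atlas.chart n f) {U : X.left.Opens}
    {y : Γ(B.V.left, B.π.left ⁻¹ᵁ U)} (hy : y ∈ B.atlas.chart U) :
    ∃ c : Γ(X.left, U), GLinSh.resTop B.π U f = B.π.left.app U c * y ^ n ∧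
      ∀ (R : Type u) [CommRing R] [Algebra k R] (v : VecGrp.pt k R ⟶ B.V) (h : ⊤ ≤ v.left ⁻¹ᵁ (B.π.left ⁻¹ᵁ U)),
        pullFn v f = lval (v ≫ B.π) U h c * lval v _ h y ^ n := by
  obtain ⟨c, hc⟩ := hf U y hy
  refine ⟨c, hc, fun R _ _ v h => ?_⟩
  rw [← lval_resTop v h f, lval_comp v B.π U h h c, ← map_pow, ← map_mul]
  exact congrArg _ hc

theorem isHom_of_hasWeight {n : ℕ} {f : Fn B.V} (hf : GLinSh.HasWeight B.atlas.chart n f) : IsHom B n f := by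
  intro K _ _ s v v' h
  obtain ⟨U, y, hy, hU⟩ := exists_chart B (v ≫ B.π)
  obtain ⟨c, -, hc⟩ := pullFn_weight B hf hy
  have h1 : ⊤ ≤ v.left ⁻¹ᵁ (B.π.left ⁻¹ᵁ U) := hU
  have h2 := top_le_of_base B h.base h1
  rw [hc K v h1, hc K v' h2, h.coord U y hy h1 h2, lval_congr h.base U h2 h1]
  ring

/-- A section does not vanish at a rational point exactly when it does not vanish at a non-zero vector over it. -/
theorem mem_nonvanishing_iff {n : ℕ} {f : Fn B.V} (hf : GLinSh.HasWeight B.atlas.chart n f)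
    (v : VecGrp.pt k k ⟶ B.V) (hv : Gd B v) :
    (v ≫ B.π).left.base (IsLocalRing.closedPoint k) ∈ GLinSh.nonvanishing B.π f ↔ pullFn v f ≠ 0 := by
  have h0 : pullFn v f ≠ 0 ↔ v.left.base (IsLocalRing.closedPoint k) ∈ B.V.left.basicOpen f := by
    rw [← isUnit_iff_ne_zero]
    constructor
    · intro hu
      have h1 : IsUnit (ev v f) := by
        have := hu.map (Scheme.ΓSpecIso (CommRingCat.of k)).inv.hom
        rwa [GrpSchLib.Kunneth.pullFn_apply,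
          show (Scheme.ΓSpecIso (CommRingCat.of k)).inv.hom ((Scheme.ΓSpecIso (CommRingCat.of k)).hom (ev v f)) = ev v f
            from Iso.hom_inv_id_apply (Scheme.ΓSpecIso (CommRingCat.of k)) _] at this
      have h2 : (v.left ⁻¹ᵁ B.V.left.basicOpen f) = ⊤ := by
        rw [Scheme.preimage_basicOpen]
        exact Scheme.basicOpen_of_isUnit _ h1
      exact h2.ge trivial
    · intro hm
      have h2 : ⊤ ≤ v.left ⁻¹ᵁ B.V.left.basicOpen f := top_le_of_closedPoint v hm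
      rw [← lval_top v le_top f, ← lval_res v (B.V.left.basicOpen_le f) h2]
      exact (RingedSpace.isUnit_res_basicOpen B.V.left.toLocallyRingedSpace.toRingedSpace f).map (lval v _ h2)
  rw [h0]
  constructor
  · rintro ⟨q, hq, hqx⟩
    obtain ⟨U, y, hy, hU⟩ := exists_chart B (v ≫ B.π)
    obtain ⟨c, hc, hc'⟩ := pullFn_weight B hf hy
    have hqU : q ∈ B.π.left ⁻¹ᵁ U := by
      show B.π.left.base q ∈ U
      rw [hqx]; exact hU (Set.mem_univ _)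
    have h1 : q ∈ B.V.left.basicOpen (GLinSh.resTop B.π U f) := by
      rw [Scheme.basicOpen_res]; exact ⟨hqU, hq⟩
    rw [hc, Scheme.basicOpen_mul, ← Scheme.preimage_basicOpen] at h1
    have h2 : ⊤ ≤ (v ≫ B.π).left ⁻¹ᵁ X.left.basicOpen c := top_le_of_closedPoint _ (hqx ▸ h1.1)
    have hu : IsUnit (lval (v ≫ B.π) U hU c) := by
      rw [← lval_res (v ≫ B.π) (X.left.basicOpen_le c) h2]
      exact (RingedSpace.isUnit_res_basicOpen X.left.toLocallyRingedSpace.toRingedSpace c).map (lval _ _ h2)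
    rw [← h0, ← isUnit_iff_ne_zero, hc' k v hU]
    exact hu.mul ((hv U y hy hU).pow n)
  · intro hm
    exact ⟨_, hm, rfl⟩

/-- The weight on the fibre of a fixed point, on valued points. -/
theorem rel_of_hasFibreWeight {l : Red.Gm (Spec (CommRingCat.of k)) ⟶ G} {y₀ : 𝟙_ (Over (Spec (CommRingCat.of k))) ⟶ X}
    {w : ℤ} (hw : HMNum.HasFibreWeight B l y₀ w) {K : Type u} [Field K] [Algebra k K]
    (g : VecGrp.pt k K ⟶ Red.Gm (Spec (CommRingCat.of k))) {v : VecGrp.pt k K ⟶ B.V} (hv : v ≫ B.π = cst y₀ K) :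
    Rel B ((gmVal g ^ w : Kˣ) : K) v (lift (g ≫ l) v ≫ B.lift.act) := by
  obtain ⟨hfix, U, y, hy, hU, h⟩ := hw
  have hgv : (lift (g ≫ l) v ≫ B.lift.act) ≫ B.π = toUnit _ ≫ y₀ := by
    rw [act_π, hv]; exact hfix _ _ g
  refine rel_of_chart B hy (hgv.trans hv.symm) (HMNum.top_le_preimage B.π hU hv)
    (HMNum.top_le_preimage B.π hU hgv) ?_
  rw [lval_evalFn, lval_evalFn, h _ (toUnit _) g v hv hgv]
  refine (map_mul _ _ _).trans ?_
  congr 1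
  rw [gmVal, ← map_zpow]
  rfl

end Groth.Agent.HMSec
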