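import Groth.Agent.GrpSchLib.AntiAffineGMod
import Groth.Agent.H23.CharPts
import Groth.Agent.GrpSchLib.Action
import Groth.Prelude.Def_VecGrp
import Groth.Prelude.Def_HMNum

/-! Values of functions at points with values in algebras. -/

set_option autoImplicit false
set_option linter.unusedSectionVars false
set_option backward.isDefEq.respectTransparency false
set_option backward.isDefEq.respectTransparency.types false

universe u

open CategoryTheory CategoryTheory.Limits MonoidalCategory CartesianMonoidalCategory MonObj GrpObj AlgebraicGeometry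
open Opposite TopologicalSpace
open Groth.Agent.GrpSchLib.Kunneth (Fn ev pullFn)

namespace Groth.Agent.HMSec

variable {k : Type u} [Field k]
variable {R R' : Type u} [CommRing R] [Algebra k R] [CommRing R'] [Algebra k R']
variable {X Z : Over (Spec (CommRingCat.of k))}

/-- The value of a function on an open at a point landing in it. -/
noncomputable def lval (p : VecGrp.pt k R ⟶ Z) (U : Z.left.Opens) (h : ⊤ ≤ p.left ⁻¹ᵁ U) : Γ(Z.left, U) →+* R :=
  (p.left.appLE U ⊤ h ≫ (Scheme.ΓSpecIso (CommRingCat.of R)).hom).hom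

theorem lval_congr {p q : VecGrp.pt k R ⟶ Z} (e : p = q) (U : Z.left.Opens) (h : ⊤ ≤ p.left ⁻¹ᵁ U)
    (h' : ⊤ ≤ q.left ⁻¹ᵁ U) : lval p U h = lval q U h' := by subst e; rfl

theorem lval_res (p : VecGrp.pt k R ⟶ Z) {U W : Z.left.Opens} (hWU : W ≤ U) (hW : ⊤ ≤ p.left ⁻¹ᵁ W)
    (s : Γ(Z.left, U)) :
    lval p W hW (Z.left.presheaf.map (homOfLE hWU).op s) = lval p U (hW.trans (p.left.preimage_mono hWU)) s :=
  ConcreteCategory.congr_hom (congrArg (fun z => z ≫ (Scheme.ΓSpecIso (CommRingCat.of R)).hom)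
    (p.left.map_appLE hW (homOfLE hWU).op)) s

theorem appLE_top {Y W : Scheme.{u}} (f : Y ⟶ W) (h : ⊤ ≤ f ⁻¹ᵁ ⊤) : f.appLE ⊤ ⊤ h = f.appTop :=
  Scheme.Hom.appLE_eq_app (f := f) (U := ⊤)

theorem lval_top (p : VecGrp.pt k R ⟶ Z) (h : ⊤ ≤ p.left ⁻¹ᵁ ⊤) (f : Fn Z) : lval p ⊤ h f = pullFn p f := by
  show ((p.left.appLE ⊤ ⊤ h) ≫ _).hom f = _
  rw [appLE_top]
  rfl

theorem lval_resTop (p : VecGrp.pt k R ⟶ Z) {U : Z.left.Opens} (hU : ⊤ ≤ p.left ⁻¹ᵁ U) (f : Fn Z) :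
    lval p U hU (Z.left.presheaf.map (homOfLE le_top).op f) = pullFn p f := by
  rw [lval_res p le_top hU, lval_top]

theorem lval_comp (p : VecGrp.pt k R ⟶ Z) (g : Z ⟶ X) (U : X.left.Opens) (h : ⊤ ≤ (p ≫ g).left ⁻¹ᵁ U)
    (h' : ⊤ ≤ p.left ⁻¹ᵁ (g.left ⁻¹ᵁ U)) (s : Γ(X.left, U)) :
    lval (p ≫ g) U h s = lval p (g.left ⁻¹ᵁ U) h' (g.left.app U s) := by
  have e : (p.left ≫ g.left).appLE U ⊤ h ≫ (Scheme.ΓSpecIso (CommRingCat.of R)).hom =
      g.left.app U ≫ p.left.appLE _ ⊤ h' ≫ (Scheme.ΓSpecIso (CommRingCat.of R)).hom := by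
    rw [← Category.assoc]
    rw [← Scheme.Hom.appLE_comp_appLE p.left g.left U (g.left ⁻¹ᵁ U) ⊤ le_rfl h', Scheme.Hom.app_eq_appLE]
  exact ConcreteCategory.congr_hom e s

theorem lval_ptMap (φ : R →ₐ[k] R') (p : VecGrp.pt k R ⟶ Z) (U : Z.left.Opens)
    (h : ⊤ ≤ p.left ⁻¹ᵁ U) (h' : ⊤ ≤ (VecGrp.ptMap φ ≫ p).left ⁻¹ᵁ U) (s : Γ(Z.left, U)) :
    lval (VecGrp.ptMap φ ≫ p) U h' s = φ (lval p U h s) := by
  let ψ := Spec.map (CommRingCat.ofHom φ.toRingHom)
  have hψ : (⊤ : (Spec (CommRingCat.of R')).Opens) ≤ ψ ⁻¹ᵁ ⊤ := le_top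
  have e : (VecGrp.ptMap φ ≫ p).left.appLE U ⊤ h' ≫ (Scheme.ΓSpecIso (CommRingCat.of R')).hom =
      (p.left.appLE U ⊤ h ≫ (Scheme.ΓSpecIso (CommRingCat.of R)).hom) ≫ CommRingCat.ofHom φ.toRingHom := by
    show (ψ ≫ p.left).appLE U ⊤ h' ≫ _ = _
    rw [← Scheme.Hom.appLE_comp_appLE ψ p.left U ⊤ ⊤ h hψ, Category.assoc, Category.assoc,
      appLE_top ψ]
    congr 1
    exact Scheme.ΓSpecIso_naturality (CommRingCat.ofHom φ.toRingHom)
  exact ConcreteCategory.congr_hom e s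

/-- A point with values in a local ring lands in every open containing the image of the closed point. -/
theorem top_le_of_closedPoint [IsLocalRing R] (p : VecGrp.pt k R ⟶ Z) {U : Z.left.Opens}
    (h : p.left.base (IsLocalRing.closedPoint R) ∈ U) : ⊤ ≤ p.left ⁻¹ᵁ U := fun t _ =>
  (((PrimeSpectrum.le_iff_specializes t (IsLocalRing.closedPoint R)).1
    (IsLocalRing.le_maximalIdeal t.isPrime.ne_top)).map p.left.continuous).mem_open U.isOpen h

theorem exists_open_affine [IsLocalRing R] (p : VecGrp.pt k R ⟶ Z) {U : Z.left.Opens}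
    (h : ⊤ ≤ p.left ⁻¹ᵁ U) : ∃ W : Z.left.Opens, IsAffineOpen W ∧ W ≤ U ∧ ⊤ ≤ p.left ⁻¹ᵁ W := by
  obtain ⟨W, hW, hxW, hWU⟩ := exists_isAffineOpen_mem_and_subset (x := p.left.base (IsLocalRing.closedPoint R))
    (U := U) (h trivial)
  exact ⟨W, hW, hWU, top_le_of_closedPoint p hxW⟩

theorem left_eq_fromSpec (p : VecGrp.pt k R ⟶ Z) {W : Z.left.Opens} (hW : IsAffineOpen W)
    (h : ⊤ ≤ p.left ⁻¹ᵁ W) : Spec.map (CommRingCat.ofHom (lval p W h)) ≫ hW.fromSpec = p.left := by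
  show Spec.map (p.left.appLE W ⊤ h ≫ (Scheme.ΓSpecIso (CommRingCat.of R)).hom) ≫ _ = _
  have : IsAffine (VecGrp.pt k R).left := inferInstanceAs (IsAffine (Spec _))
  rw [Spec.map_comp, Category.assoc, hW.SpecMap_appLE_fromSpec p.left (isAffineOpen_top _) h]
  change Spec.map _ ≫ (isAffineOpen_top (Spec (CommRingCat.of R))).fromSpec ≫ p.left = p.left
  rw [IsAffineOpen.fromSpec_top, Scheme.isoSpec_Spec_inv, ← Category.assoc, ← Spec.map_comp, Iso.inv_hom_id,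
    Spec.map_id]
  exact Category.id_comp _

/-- A rational point with values in an algebra. -/
noncomputable def cst (x : 𝟙_ (Over (Spec (CommRingCat.of k))) ⟶ Z) (R : Type u) [CommRing R] [Algebra k R] :
    VecGrp.pt k R ⟶ Z :=
  toUnit _ ≫ x

theorem ptMap_cst (φ : R →ₐ[k] R') (x : 𝟙_ (Over (Spec (CommRingCat.of k))) ⟶ Z) :
    VecGrp.ptMap φ ≫ cst x R = cst x R' := by
  rw [cst, cst, ← Category.assoc, comp_toUnit]

theorem cst_comp (x : 𝟙_ (Over (Spec (CommRingCat.of k))) ⟶ Z) (g : Z ⟶ X) :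
    cst x R ≫ g = cst (x ≫ g) R := Category.assoc _ _ _

/-- The point of the multiplicative group given by a unit. -/
noncomputable def gmPt (b : Rˣ) : VecGrp.pt k R ⟶ Red.Gm (Spec (CommRingCat.of k)) :=
  GmPts.ptOfUnit (Units.map (Scheme.ΓSpecIso (CommRingCat.of R)).inv.hom.toMonoidHom b)

/-- The unit given by a point of the multiplicative group. -/
noncomputable def gmVal (g : VecGrp.pt k R ⟶ Red.Gm (Spec (CommRingCat.of k))) : Rˣ :=
  Units.map (Scheme.ΓSpecIso (CommRingCat.of R)).hom.hom.toMonoidHom (GmPts.unitOfPt g)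

theorem gmVal_gmPt (b : Rˣ) : gmVal (k := k) (gmPt b) = b := by
  rw [gmVal, gmPt, GmPts.unitOfPt_ptOfUnit]
  refine Units.ext ?_
  exact Iso.inv_hom_id_apply (Scheme.ΓSpecIso (CommRingCat.of R)) (b : R)

theorem gmPt_gmVal (g : VecGrp.pt k R ⟶ Red.Gm (Spec (CommRingCat.of k))) : gmPt (gmVal g) = g := by
  apply (GmPts.equiv _).injective
  show GmPts.unitOfPt _ = GmPts.unitOfPt g
  rw [gmPt, GmPts.unitOfPt_ptOfUnit]
  refine Units.ext ?_
  exact Iso.hom_inv_id_apply (Scheme.ΓSpecIso (CommRingCat.of R)) _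

theorem gmVal_mul (g h : VecGrp.pt k R ⟶ Red.Gm (Spec (CommRingCat.of k))) :
    gmVal (g * h) = gmVal g * gmVal h := by
  rw [gmVal, gmVal, gmVal, GmPts.unitOfPt_mul, map_mul]

theorem gmVal_ptMap (φ : R →ₐ[k] R') (g : VecGrp.pt k R ⟶ Red.Gm (Spec (CommRingCat.of k))) :
    gmVal (VecGrp.ptMap φ ≫ g) = Units.map φ.toMonoidHom (gmVal g) := by
  refine Units.ext ?_
  rw [gmVal, gmVal, GmPts.unitOfPt_comp]
  exact ConcreteCategory.congr_hom (Scheme.ΓSpecIso_naturality (CommRingCat.ofHom φ.toRingHom)) _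

theorem gmPt_map (φ : R →ₐ[k] R') (b : Rˣ) :
    VecGrp.ptMap φ ≫ gmPt b = gmPt (k := k) (Units.map φ.toMonoidHom b) := by
  rw [← gmPt_gmVal (VecGrp.ptMap φ ≫ gmPt b), gmVal_ptMap, gmVal_gmPt]

end Groth.Agent.HMSec
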