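import Groth.Agent.CAlgOdd.GLChar
import Groth.Agent.H28.MagnetTheta
import Groth.Agent.HMSec.Points
import Groth.Agent.HMTransLib.Limit
import Mathlib.Algebra.Polynomial.Laurent
import Mathlib.Algebra.Polynomial.Derivative

/-! The affine line and the multiplicative group over a field: coordinates and units. -/

set_option autoImplicit false
set_option linter.unusedSectionVars false
set_option backward.isDefEq.respectTransparency false
set_option backward.isDefEq.respectTransparency.types false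

universe u

open CategoryTheory CategoryTheory.Limits MonoidalCategory CartesianMonoidalCategory MonObj GrpObj AlgebraicGeometry
open Opposite TopologicalSpace
open Groth.Agent.GrpSchLib.Kunneth (Fn ev pullFn)

namespace Groth.Agent.HMSec

open H23.CharPts

section AnyBase

variable {S : Scheme.{u}} {T T' : Over S}

theorem one_mem_plus : (1 : ℤ) ∈ HMNum.plus := AddSubmonoid.mem_multiples 1

/-- The coordinate of a point of the affine line. -/
noncomputable def a1Fn (z : T ⟶ HMNum.A1 S) : Γ(T.left, ⊤) := chi z (Multiplicative.ofAdd ⟨1, one_mem_plus⟩)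

theorem a1Fn_comp (t : T' ⟶ T) (z : T ⟶ HMNum.A1 S) : a1Fn (t ≫ z) = t.left.appTop (a1Fn z) := chi_comp t z _

theorem plus_eq_nsmul (m : HMNum.plus) : m = (m : ℤ).toNat • (⟨1, one_mem_plus⟩ : HMNum.plus) := by
  refine Subtype.ext ?_
  have := (HMNum.mem_plus_iff _).mp m.2
  simp
  omega

theorem a1Fn_injective {z z' : T ⟶ HMNum.A1 S} (h : a1Fn z = a1Fn z') : z = z' := by
  refine chi_injective (MonoidHom.ext fun m => ?_)
  rw [show m = Multiplicative.ofAdd (⟨1, one_mem_plus⟩ : HMNum.plus) ^ ((m.toAdd : HMNum.plus) : ℤ).toNat from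
    Multiplicative.toAdd.injective (by rw [toAdd_pow]; exact plus_eq_nsmul _), map_pow, map_pow]
  exact congrArg (· ^ _) h

theorem exists_a1Fn_eq (b : Γ(T.left, ⊤)) : ∃ z : T ⟶ HMNum.A1 S, a1Fn z = b := by
  obtain ⟨z, hz⟩ := exists_chi_eq (S := S) (T := T) (M := ↥HMNum.plus)
    { toFun := fun m => b ^ ((m.toAdd : HMNum.plus) : ℤ).toNat
      map_one' := by simp
      map_mul' := fun m m' => by
        have h1 := (HMNum.mem_plus_iff _).mp m.toAdd.2
        have h2 := (HMNum.mem_plus_iff _).mp m'.toAdd.2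
        rw [← pow_add, toAdd_mul, AddSubmonoid.coe_add, Int.toNat_add h1 h2] }
  exact ⟨z, by rw [a1Fn, hz]; exact pow_one b⟩

theorem a1Fn_incl (g : T ⟶ Red.Gm S) : a1Fn (g ≫ HMNum.incl S) = Red.gmFn g := by
  rw [a1Fn]
  erw [chi_map]
  rfl

theorem chi_faceMap {M : Type} [AddCommMonoid M] {N F : AddSubmonoid M} (hF : Magnet.IsFace N F)
    (x : T ⟶ Magnet.AMonS S ↥F) {n : N} (hn : (n : M) ∉ F) :
    chi (x ≫ Magnet.AMonS.faceMap S hF) (Multiplicative.ofAdd n) = 0 := by
  have h : toSp (x ≫ Magnet.AMonS.faceMap S hF) = toSp x ≫ (Magnet.AMon.faceMap (ULift.{u} ℤ) hF).left :=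
    (Category.assoc _ _ _).trans ((congrArg (x.left ≫ ·) (pullback.lift_fst _ _ _)).trans (Category.assoc _ _ _).symm)
  have h2 : ringMap (x ≫ Magnet.AMonS.faceMap S hF) =
      CommRingCat.ofHom (Magnet.faceAlgHom (ULift.{u} ℤ) hF).toRingHom ≫ ringMap x := by
    rw [ringMap, ringMap, h]
    refine (congrArg (_ ≫ ·) (Scheme.Hom.comp_appTop _ _)).trans ((Category.assoc _ _ _).symm.trans ?_)
    refine (congrArg (· ≫ (toSp x).appTop) ?_).trans (Category.assoc _ _ _)
    exact (Scheme.ΓSpecIso_inv_naturality _).symm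
  rw [chi_apply, h2]
  show (ringMap x).hom (Magnet.faceAlgHom _ hF _) = 0
  erw [Magnet.faceAlgHom_single_of_not_mem (ULift.{u} ℤ) hF n hn]
  exact map_zero _

theorem a1Fn_origin : a1Fn (toUnit T ≫ HMNum.origin S) = 0 := by
  rw [a1Fn, HMNum.origin, ← Category.assoc]
  exact chi_faceMap _ _ (by simp)

end AnyBase

variable {k : Type u} [Field k]

/-- The unit point over a field. -/
noncomputable abbrev one' (k : Type u) [Field k] : Over (Spec (CommRingCat.of k)) := 𝟙_ _

/-- The map to the spectrum of an algebra given by functions. -/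
noncomputable def toSpec {R : Type u} [CommRing R] [Algebra k R] (T : Over (Spec (CommRingCat.of k)))
    (φ : R →ₐ[k] Fn T) : T ⟶ VecGrp.pt k R :=
  Over.homMk (T.left.toSpecΓ ≫ Spec.map (CommRingCat.ofHom φ.toRingHom)) (by
    show (T.left.toSpecΓ ≫ Spec.map _) ≫ Spec.map (CommRingCat.ofHom (algebraMap k R)) = T.hom
    rw [Category.assoc, ← Spec.map_comp, ← CommRingCat.ofHom_comp,
      show φ.toRingHom.comp (algebraMap k R) = algebraMap k (Fn T) from RingHom.ext fun c => φ.commutes c]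
    show T.left.toSpecΓ ≫ Spec.map ((Scheme.ΓSpecIso _).inv ≫ T.hom.appTop) = T.hom
    rw [Spec.map_comp, ← Scheme.toSpecΓ_naturality_assoc, ← SpecMap_ΓSpecIso_hom, ← Spec.map_comp, Iso.inv_hom_id]
    simp)

theorem comp_toSpec {R : Type u} [CommRing R] [Algebra k R] {T T' : Over (Spec (CommRingCat.of k))} (t : T' ⟶ T)
    (φ : R →ₐ[k] Fn T) : t ≫ toSpec T φ = toSpec T' ((ev t).comp φ) := by
  refine Over.OverMorphism.ext ?_
  show t.left ≫ T.left.toSpecΓ ≫ Spec.map _ = T'.left.toSpecΓ ≫ Spec.map _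
  rw [Scheme.toSpecΓ_naturality_assoc, ← Spec.map_comp]
  rfl

theorem toSpec_comp {R R' : Type u} [CommRing R] [Algebra k R] [CommRing R'] [Algebra k R']
    {T : Over (Spec (CommRingCat.of k))} (φ : R →ₐ[k] Fn T) (ψ : R' →ₐ[k] R) :
    toSpec T φ ≫ VecGrp.ptMap ψ = toSpec T (φ.comp ψ) := by
  refine Over.OverMorphism.ext ?_
  show (T.left.toSpecΓ ≫ Spec.map _) ≫ Spec.map _ = T.left.toSpecΓ ≫ Spec.map _
  rw [Category.assoc, ← Spec.map_comp]
  rfl

theorem ev_toSpec {R : Type u} [CommRing R] [Algebra k R] {T : Over (Spec (CommRingCat.of k))} (φ : R →ₐ[k] Fn T)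
    (r : R) : ev (toSpec T φ) ((Scheme.ΓSpecIso (CommRingCat.of R)).inv r) = φ r := by
  show (T.left.toSpecΓ ≫ Spec.map (CommRingCat.ofHom φ.toRingHom)).appTop ((Scheme.ΓSpecIso (CommRingCat.of R)).inv r) = _
  rw [Scheme.Hom.comp_appTop, CommRingCat.comp_apply,
    ← CommRingCat.comp_apply (Scheme.ΓSpecIso (CommRingCat.of R)).inv, ← Scheme.ΓSpecIso_inv_naturality,
    CommRingCat.comp_apply, Scheme.toSpecΓ_appTop]
  exact Iso.inv_hom_id_apply (Scheme.ΓSpecIso _) _

theorem toSpec_pt {R R' : Type u} [CommRing R] [Algebra k R] [CommRing R'] [Algebra k R']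
    (φ : R →ₐ[k] Fn (VecGrp.pt k R')) (ψ : R →ₐ[k] R')
    (h : ∀ r, φ r = (Scheme.ΓSpecIso (CommRingCat.of R')).inv (ψ r)) :
    toSpec (VecGrp.pt k R') φ = VecGrp.ptMap ψ := by
  refine Over.OverMorphism.ext ?_
  show (Spec (CommRingCat.of R')).toSpecΓ ≫ Spec.map _ = Spec.map _
  rw [← SpecMap_ΓSpecIso_hom, ← Spec.map_comp]
  congr 1
  refine CommRingCat.hom_ext (RingHom.ext fun r => ?_)
  show (Scheme.ΓSpecIso (CommRingCat.of R')).hom (φ r) = ψ r
  rw [h]
  exact Iso.inv_hom_id_apply (Scheme.ΓSpecIso (CommRingCat.of R')) _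

theorem pullFn_one_ptMap {Z : Over (Spec (CommRingCat.of k))} {R R' : Type u} [CommRing R] [Algebra k R]
    [CommRing R'] [Algebra k R'] [MonObj Z] (φ : R →ₐ[k] R') :
    VecGrp.ptMap φ ≫ (1 : VecGrp.pt k R ⟶ Z) = 1 := MonObj.comp_one _

/-- A multiplicative function on the multiplicative group is a power of the coordinate. -/
theorem exists_zpow_gm (C : Fn (Red.Gm (Spec (CommRingCat.of k))))
    (hmul : ∀ (R : Type u) [CommRing R] [Algebra k R] (g h : VecGrp.pt k R ⟶ Red.Gm (Spec (CommRingCat.of k))),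
      pullFn (g * h) C = pullFn g C * pullFn h C)
    (hone : ∀ (R : Type u) [CommRing R] [Algebra k R],
      pullFn (1 : VecGrp.pt k R ⟶ Red.Gm (Spec (CommRingCat.of k))) C = 1) :
    ∃ d : ℤ, ∀ (T : Over (Spec (CommRingCat.of k))) (g : T ⟶ Red.Gm (Spec (CommRingCat.of k))),
      ev g C = ((GmPts.unitOfPt g ^ d : (Γ(T.left, ⊤))ˣ) : Γ(T.left, ⊤)) := by
  have hgm : ∀ (R : Type u) [CommRing R] [Algebra k R] (b c : Rˣ),
      gmPt (k := k) (b * c) = gmPt b * gmPt c := fun R _ _ b c => by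
    rw [gmPt, gmPt, gmPt, map_mul, GmPts.ptOfUnit_mul]
  have hgm1 : ∀ (R : Type u) [CommRing R] [Algebra k R], gmPt (k := k) (1 : Rˣ) = 1 := fun R _ _ => by
    rw [gmPt, map_one, GmPts.ptOfUnit_one]
  obtain ⟨d, hd⟩ := CAlgOdd.GLChar.exists_zpow (R := k)
    (fun B _ _ => ({ toFun := fun b => pullFn (gmPt b) C
                     map_one' := by rw [hgm1, hone]
                     map_mul' := fun b c => by rw [hgm, hmul] } : Bˣ →* B).toHomUnits)
    (fun B B' _ _ _ _ φ x => Units.ext (by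
      show pullFn (gmPt (Units.map φ.toRingHom.toMonoidHom x)) C = φ (pullFn (gmPt x) C)
      rw [← GrpSchLib.Kunneth.pullFn_ptMap, gmPt_map]))
  have : IsAffine (Red.Gm (Spec (CommRingCat.of k))).left :=
    have : IsAffineHom (Red.Gm (Spec (CommRingCat.of k))).hom :=
      MorphismProperty.pullback_snd _ _ (@isAffineHom_of_isAffine _ _ _ (isAffine_Spec _) (isAffine_Spec _))
    isAffine_of_isAffineHom (Red.Gm (Spec (CommRingCat.of k))).hom
  have hU := isAffineOpen_top (Red.Gm (Spec (CommRingCat.of k))).left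
  let := GrpSchLib.Kunneth.algOpen hU
  let o := GrpSchLib.Kunneth.openPt hU
  have h1 : pullFn o C = ((gmVal o ^ d : _ˣ) : _) := by
    have h2 := congrArg Units.val (hd _ (gmVal o))
    rw [← h2]
    show _ = pullFn (gmPt (gmVal o)) C
    rw [gmPt_gmVal]
  refine ⟨d, fun T g => ?_⟩
  have h0 : C = ((GmPts.unitOfPt (𝟙 (Red.Gm (Spec (CommRingCat.of k)))) ^ d : _ˣ) : Fn (Red.Gm (Spec (CommRingCat.of k)))) := by
    have hid : ∀ s : Fn (Red.Gm (Spec (CommRingCat.of k))), pullFn o s = s := fun s => by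
      rw [GrpSchLib.Kunneth.pullFn_openPt hU,
        show (homOfLE (le_top : (⊤ : (Red.Gm (Spec (CommRingCat.of k))).left.Opens) ≤ ⊤)).op = 𝟙 _ from rfl,
        CategoryTheory.Functor.map_id]
      rfl
    rw [← hid C, h1, ← hid (((GmPts.unitOfPt (𝟙 (Red.Gm (Spec (CommRingCat.of k)))) ^ d : _ˣ)) :
      Fn (Red.Gm (Spec (CommRingCat.of k))))]
    refine congrArg Units.val (Eq.trans ?_ (map_zpow (Units.map (pullFn o).toMonoidHom)
      (GmPts.unitOfPt (𝟙 (Red.Gm (Spec (CommRingCat.of k))))) d).symm)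
    congr 1
  conv_lhs => rw [h0]
  refine congrArg Units.val ((map_zpow (Units.map (ev g).toMonoidHom) _ d).trans ?_)
  congr 1

end Groth.Agent.HMSec
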