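import Groth.Agent.HMSec.Points
import Groth.Agent.Rat20Lib.Criterion
import Mathlib.AlgebraicGeometry.ValuativeCriterion
import Mathlib.RingTheory.DedekindDomain.PID
import Mathlib.Algebra.Polynomial.Laurent

/-! Extending curves over the affine line into proper schemes. -/

set_option autoImplicit false
set_option linter.unusedSectionVars false
set_option backward.isDefEq.respectTransparency false
set_option backward.isDefEq.respectTransparency.types false

universe u

open CategoryTheory CategoryTheory.Limits MonoidalCategory CartesianMonoidalCategory MonObj GrpObj AlgebraicGeometry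
open Opposite TopologicalSpace Polynomial
open Groth.Agent.GrpSchLib.Kunneth (Fn ev pullFn)

namespace Groth.Agent.HMSec

variable {k : Type u} [Field k]

/-- The prime of the origin. -/
noncomputable abbrev originIdeal (k : Type u) [Field k] : Ideal k[X] := Ideal.span {X}

instance : (originIdeal k).IsPrime :=
  (Ideal.span_singleton_prime Polynomial.X_ne_zero).mpr Polynomial.prime_X

/-- The local ring of the affine line at the origin. -/
abbrev Loc (k : Type u) [Field k] : Type u := Localization.AtPrime (originIdeal k)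

instance : IsDiscreteValuationRing (Loc k) :=
  IsLocalization.AtPrime.isDiscreteValuationRing_of_dedekind_domain k[X] (P := originIdeal k)
    (by simp [Polynomial.X_ne_zero]) _

/-- The function field of the affine line. -/
abbrev FF (k : Type u) [Field k] : Type u := FractionRing (Loc k)

theorem loc_injective : Function.Injective (algebraMap k[X] (Loc k)) :=
  IsLocalization.injective (M := (originIdeal k).primeCompl) (Loc k) (Ideal.primeCompl_le_nonZeroDivisors _)

/-- The coordinate in the local ring. -/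
noncomputable abbrev locX (k : Type u) [Field k] : Loc k := algebraMap k[X] (Loc k) X

/-- The coordinate in the function field. -/
noncomputable abbrev ffX (k : Type u) [Field k] : FF k := algebraMap (Loc k) (FF k) (locX k)

theorem locX_ne_zero : locX k ≠ 0 := fun h => Polynomial.X_ne_zero (loc_injective (h.trans (map_zero _).symm))

theorem ffX_ne_zero : ffX k ≠ 0 := fun h =>
  locX_ne_zero (IsFractionRing.injective (Loc k) (FF k) (h.trans (map_zero _).symm))

theorem not_isUnit_locX : ¬ IsUnit (locX k) := fun h =>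
  (IsLocalization.AtPrime.isUnit_to_map_iff (Loc k) (originIdeal k) X).mp h (Ideal.mem_span_singleton_self X)

/-- The inclusion of the local ring in the function field. -/
noncomputable def locToFF : Loc k →ₐ[k] FF k := IsScalarTower.toAlgHom k (Loc k) (FF k)

theorem ff_injective : Function.Injective (algebraMap (Loc k) (FF k)) :=
  IsFractionRing.injective (Loc k) (FF k)

/-- Evaluation at the origin. -/
noncomputable def locEval : Loc k →ₐ[k] k :=
  IsLocalization.liftAlgHom (M := (originIdeal k).primeCompl) (f := Polynomial.aeval (0 : k)) fun s => by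
    refine isUnit_iff_ne_zero.mpr fun h => s.2 ?_
    rw [SetLike.mem_coe, Ideal.mem_span_singleton, Polynomial.X_dvd_iff]
    rwa [← Polynomial.coeff_zero_eq_aeval_zero] at h

theorem locEval_locX : locEval (locX k) = 0 := by
  rw [locEval, locX, IsLocalization.liftAlgHom_apply, IsLocalization.lift_eq]
  exact Polynomial.aeval_X _

variable {X : Over (Spec (CommRingCat.of k))}

/-- A point of an affine open as a map of algebras. -/
theorem exists_algHom_of_point {R : Type u} [CommRing R] [Algebra k R] (p : VecGrp.pt k R ⟶ X) {W : X.left.Opens}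
    (hW : IsAffineOpen W) (h : ⊤ ≤ p.left ⁻¹ᵁ W) :
    letI := GrpSchLib.Kunneth.algOpen hW
    ∃ ψ : Γ(X.left, W) →ₐ[k] R, VecGrp.ptMap ψ ≫ GrpSchLib.Kunneth.openPt hW = p ∧ ψ.toRingHom = lval p W h := by
  let alg := GrpSchLib.Kunneth.algOpen hW
  have e : Spec.preimage (hW.fromSpec ≫ X.hom) ≫ CommRingCat.ofHom (lval p W h) =
      CommRingCat.ofHom (algebraMap k R) := by
    apply Spec.map_injective
    rw [Spec.map_comp, Spec.map_preimage, ← Category.assoc, left_eq_fromSpec p hW h]
    exact Over.w p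
  let ψ : Γ(X.left, W) →ₐ[k] R := AlgHom.mk (lval p W h) fun c => congr($e c)
  exact ⟨ψ, Over.OverMorphism.ext (left_eq_fromSpec p hW h), rfl⟩

theorem finiteType_open [LocallyOfFiniteType X.hom] {W : X.left.Opens} (hW : IsAffineOpen W) :
    letI := GrpSchLib.Kunneth.algOpen hW
    Algebra.FiniteType k Γ(X.left, W) := by
  have h1 : LocallyOfFiniteType (hW.fromSpec ≫ X.hom) := inferInstance
  rw [← Spec.map_preimage (hW.fromSpec ≫ X.hom),
    HasRingHomProperty.Spec_iff (P := @LocallyOfFiniteType)] at h1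
  exact h1

/-- An open of the affine line on which a morphism is given by a map out of a localisation. -/
theorem exists_away (y : VecGrp.pt k (Loc k) ⟶ X) [LocallyOfFiniteType X.hom] :
    ∃ g : k[X], g ∉ originIdeal k ∧ ∃ (f : VecGrp.pt k (Localization.Away g) ⟶ X)
      (j : Localization.Away g →ₐ[k] Loc k),
      VecGrp.ptMap j ≫ f = y ∧ ∀ a, j (algebraMap k[X] _ a) = algebraMap k[X] (Loc k) a := by
  classical
  obtain ⟨W, hW, -, hyW⟩ := exists_open_affine y (U := ⊤) le_top
  let alg := GrpSchLib.Kunneth.algOpen hW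
  obtain ⟨ψ, hψ, -⟩ := exists_algHom_of_point y hW hyW
  obtain ⟨S, hS⟩ := (finiteType_open hW).1
  choose a s has using fun b : Γ(X.left, W) => IsLocalization.exists_mk'_eq (originIdeal k).primeCompl (ψ b)
  let g : k[X] := ∏ b ∈ S, (s b : k[X])
  have hg : g ∉ originIdeal k :=
    prod_mem (S := (originIdeal k).primeCompl) fun b _ => (s b).2
  let j : Localization.Away g →ₐ[k] Loc k :=
    IsLocalization.liftAlgHom (M := Submonoid.powers g) (f := IsScalarTower.toAlgHom k k[X] (Loc k)) fun t => by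
      obtain ⟨n, hn⟩ := t.2
      show IsUnit (algebraMap k[X] (Loc k) t.1)
      rw [← hn, map_pow]
      exact (IsLocalization.map_units (Loc k) (⟨g, hg⟩ : (originIdeal k).primeCompl)).pow n
  have hj : ∀ p, j (algebraMap k[X] _ p) = algebraMap k[X] (Loc k) p := fun p => by
    show IsLocalization.lift _ _ = _
    rw [IsLocalization.lift_eq]
    rfl
  have hinj : Function.Injective j := by
    have hg0 : Submonoid.powers g ≤ nonZeroDivisors k[X] :=
      powers_le_nonZeroDivisors_of_noZeroDivisors fun h => hg (h ▸ Ideal.zero_mem _)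
    refine (IsLocalization.lift_injective_iff _).mpr fun p q => ?_
    refine ⟨fun h => ?_, fun h => congrArg (algebraMap k[X] _) (loc_injective h)⟩
    exact congrArg (algebraMap k[X] (Loc k)) (IsLocalization.injective (Localization.Away g) hg0 h)
  have hrange : ψ.range ≤ j.range := by
    rw [← Algebra.map_top, ← hS, AlgHom.map_adjoin, Algebra.adjoin_le_iff]
    rintro _ ⟨b, hb, rfl⟩
    refine ⟨algebraMap k[X] _ (a b * ∏ c ∈ S.erase b, (s c : k[X])) * IsLocalization.Away.invSelf g, ?_⟩
    show j _ = ψ b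
    have hgu : j (algebraMap k[X] _ g) * j (IsLocalization.Away.invSelf g) = 1 := by
      rw [← map_mul, IsLocalization.Away.mul_invSelf, map_one]
    rw [hj] at hgu
    rw [map_mul, hj]
    have hsb : ψ b * algebraMap k[X] (Loc k) (s b) = algebraMap k[X] (Loc k) (a b) := by
      rw [← has b]; exact IsLocalization.mk'_spec _ _ _
    rw [map_mul, ← hsb]
    calc _ = ψ b * (algebraMap k[X] (Loc k) ((s b : k[X]) * ∏ c ∈ S.erase b, (s c : k[X])) *
          j (IsLocalization.Away.invSelf g)) := by rw [map_mul]; ring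
      _ = ψ b := by rw [Finset.mul_prod_erase S (fun c => (s c : k[X])) hb, hgu, _root_.mul_one]
  let ψ' : Γ(X.left, W) →ₐ[k] Localization.Away g :=
    (AlgEquiv.ofInjective j hinj).symm.toAlgHom.comp (ψ.codRestrict j.range fun b => hrange ⟨b, rfl⟩)
  refine ⟨g, hg, VecGrp.ptMap ψ' ≫ GrpSchLib.Kunneth.openPt hW, j, ?_, hj⟩
  have hcomp : j.comp ψ' = ψ := AlgHom.ext fun b =>
    congrArg Subtype.val ((AlgEquiv.ofInjective j hinj).apply_symm_apply _)
  rw [← Category.assoc, ← hψ]
  congr 1
  rw [← hcomp]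
  refine Over.OverMorphism.ext ?_
  show Spec.map _ ≫ Spec.map _ = Spec.map _
  rw [← Spec.map_comp]
  rfl

theorem ptMap_comp {R R' R'' : Type u} [CommRing R] [Algebra k R] [CommRing R'] [Algebra k R'] [CommRing R'']
    [Algebra k R''] (φ : R →ₐ[k] R') (ψ : R' →ₐ[k] R'') :
    VecGrp.ptMap ψ ≫ VecGrp.ptMap φ = VecGrp.ptMap (ψ.comp φ) := by
  refine Over.OverMorphism.ext ?_
  show Spec.map _ ≫ Spec.map _ = Spec.map _
  rw [← Spec.map_comp]
  rfl

/-- A proper scheme contains the limit of every curve. -/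
theorem exists_locPoint [IsProper X.hom] (x : VecGrp.pt k (FF k) ⟶ X) :
    ∃ y : VecGrp.pt k (Loc k) ⟶ X, VecGrp.ptMap locToFF ≫ y = x := by
  have hv : ValuativeCriterion X.hom := by
    have h : IsProper X.hom := ‹_›
    rw [IsProper.eq_valuativeCriterion] at h
    exact h.1.1.1
  obtain ⟨l, hl1, hl2⟩ := (hv.existence
    { R := Loc k
      K := FF k
      i₁ := x.left
      i₂ := Spec.map (CommRingCat.ofHom (algebraMap k (Loc k)))
      commSq := ⟨by
        rw [← Spec.map_comp, ← CommRingCat.ofHom_comp, ← IsScalarTower.algebraMap_eq]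
        exact Over.w x⟩ }).exists_lift
  exact ⟨Over.homMk l hl2, Over.OverMorphism.ext hl1⟩

/-- Gluing over the affine line. -/
theorem exists_glue_line [IsSeparated X.hom] (g₁ g₂ : k[X])
    (hcov : Ideal.span ({g₁, g₂} : Set k[X]) = ⊤)
    (f₁ : VecGrp.pt k (Localization.Away g₁) ⟶ X) (f₂ : VecGrp.pt k (Localization.Away g₂) ⟶ X)
    {L : Type u} [Field L] [Algebra k L]
    (j₁ : Localization.Away g₁ →ₐ[k] L) (j₂ : Localization.Away g₂ →ₐ[k] L)
    (hj : ∀ a, j₁ (algebraMap k[X] _ a) = j₂ (algebraMap k[X] _ a))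
    (hinj : ∀ a, j₁ (algebraMap k[X] _ a) = 0 → a = 0)
    (h : VecGrp.ptMap j₁ ≫ f₁ = VecGrp.ptMap j₂ ≫ f₂) :
    ∃ F : VecGrp.pt k k[X] ⟶ X,
      VecGrp.ptMap (IsScalarTower.toAlgHom k k[X] (Localization.Away g₁)) ≫ F = f₁ ∧
      VecGrp.ptMap (IsScalarTower.toAlgHom k k[X] (Localization.Away g₂)) ≫ F = f₂ := by
  let A : CommRingCat.{u} := CommRingCat.of k[X]
  let U : (Spec A).Opens := PrimeSpectrum.basicOpen g₁
  let V : (Spec A).Opens := PrimeSpectrum.basicOpen g₂
  let e₁ := basicOpenIsoSpecAway (R := A) g₁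
  let e₂ := basicOpenIsoSpecAway (R := A) g₂
  let p₁ : (U : Scheme.{u}) ⟶ X.left := e₁.hom ≫ f₁.left
  let p₂ : (V : Scheme.{u}) ⟶ X.left := e₂.hom ≫ f₂.left
  let str : Spec A ⟶ Spec (CommRingCat.of k) := Spec.map (CommRingCat.ofHom (algebraMap k k[X]))
  have hstr : ∀ (R : Type u) [CommRing R] [Algebra k R] [Algebra k[X] R] [IsScalarTower k k[X] R],
      Spec.map (CommRingCat.ofHom (algebraMap k R)) = Spec.map (CommRingCat.ofHom (algebraMap k[X] R)) ≫ str := by
    intro R _ _ _ _
    rw [← Spec.map_comp, ← CommRingCat.ofHom_comp, ← IsScalarTower.algebraMap_eq]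
  have hw₁ : p₁ ≫ X.hom = U.ι ≫ str := by
    rw [Category.assoc, Over.w f₁]
    show e₁.hom ≫ Spec.map (CommRingCat.ofHom (algebraMap k (Localization.Away g₁))) = _
    rw [hstr, ← Category.assoc, basicOpenIsoSpecAway_hom_SpecMap]
  have hw₂ : p₂ ≫ X.hom = V.ι ≫ str := by
    rw [Category.assoc, Over.w f₂]
    show e₂.hom ≫ Spec.map (CommRingCat.ofHom (algebraMap k (Localization.Away g₂))) = _
    rw [hstr, ← Category.assoc, basicOpenIsoSpecAway_hom_SpecMap]
  let gen : Spec (CommRingCat.of L) ⟶ Spec A :=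
    Spec.map (CommRingCat.ofHom (j₁.toRingHom.comp (algebraMap k[X] _)))
  let u₁ : Spec (CommRingCat.of L) ⟶ U := Spec.map (CommRingCat.ofHom j₁.toRingHom) ≫ e₁.inv
  let u₂ : Spec (CommRingCat.of L) ⟶ V := Spec.map (CommRingCat.ofHom j₂.toRingHom) ≫ e₂.inv
  have hu₁ : u₁ ≫ U.ι = gen := by
    show (_ ≫ e₁.inv) ≫ _ = _
    rw [← basicOpenIsoSpecAway_hom_SpecMap (R := A) g₁, Category.assoc, Iso.inv_hom_id_assoc, ← Spec.map_comp]
    rfl
  have hu₂ : u₂ ≫ V.ι = gen := by
    show (_ ≫ e₂.inv) ≫ _ = _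
    rw [← basicOpenIsoSpecAway_hom_SpecMap (R := A) g₂, Category.assoc, Iso.inv_hom_id_assoc, ← Spec.map_comp]
    exact congrArg Spec.map (CommRingCat.hom_ext (RingHom.ext fun a => (hj a).symm))
  have hrange : Set.range gen ⊆ Set.range (U ⊓ V).ι := by
    rintro _ ⟨t, rfl⟩
    rw [Scheme.Opens.range_ι]
    refine ⟨?_, ?_⟩
    · rw [← hu₁]; exact (u₁ t).2
    · rw [← hu₂]; exact (u₂ t).2
  let w := IsOpenImmersion.lift (U ⊓ V).ι gen hrange
  have hw : w ≫ (U ⊓ V).ι = gen := IsOpenImmersion.lift_fac _ _ _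
  have : IsDominant gen := by
    refine ⟨?_⟩
    show DenseRange (PrimeSpectrum.comap (j₁.toRingHom.comp (algebraMap k[X] _)))
    rw [PrimeSpectrum.denseRange_comap_iff_ker_le_nilRadical]
    exact fun a ha => by rw [hinj a ha]; exact Ideal.zero_mem _
  have : IsDominant w := by
    refine ⟨?_⟩
    have h1 : DenseRange gen := gen.denseRange
    rw [← hw] at h1
    intro t
    rw [(U ⊓ V).ι.isOpenEmbedding.isEmbedding.closure_eq_preimage_closure_image, Set.mem_preimage, ← Set.range_comp]
    exact h1 _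
  have : IsReduced (Spec A) := inferInstance
  have hglue : (Spec A).homOfLE (inf_le_left : U ⊓ V ≤ U) ≫ p₁ = (Spec A).homOfLE (inf_le_right : U ⊓ V ≤ V) ≫ p₂ := by
    refine ext_of_isDominant_of_isSeparated X.hom ?_ w ?_
    · refine (Category.assoc _ p₁ _).trans (Eq.trans ?_ (Category.assoc _ p₂ _).symm)
      rw [hw₁, hw₂, ← Category.assoc, ← Category.assoc, Scheme.homOfLE_ι, Scheme.homOfLE_ι]
    · have e1 : w ≫ (Spec A).homOfLE (inf_le_left : U ⊓ V ≤ U) = u₁ := by
        rw [← cancel_mono U.ι, Category.assoc, Scheme.homOfLE_ι, hw, hu₁]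
      have e2 : w ≫ (Spec A).homOfLE (inf_le_right : U ⊓ V ≤ V) = u₂ := by
        rw [← cancel_mono V.ι, Category.assoc, Scheme.homOfLE_ι, hw, hu₂]
      refine (Category.assoc w _ p₁).symm.trans (Eq.trans ?_ (Category.assoc w _ p₂))
      rw [e1, e2]
      show (_ ≫ e₁.inv) ≫ e₁.hom ≫ f₁.left = (_ ≫ e₂.inv) ≫ e₂.hom ≫ f₂.left
      rw [Category.assoc, Category.assoc, Iso.inv_hom_id_assoc, Iso.inv_hom_id_assoc]
      exact congrArg Over.Hom.left h
  obtain ⟨F, hF₁, hF₂⟩ := Rat20Lib.exists_glue U V p₁ p₂ hglue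
  have htop : U ⊔ V = ⊤ := by
    refine top_le_iff.mp fun t _ => ?_
    by_contra hn
    have h1 : g₁ ∈ t.asIdeal := by
      by_contra h'; exact hn (Or.inl h')
    have h2 : g₂ ∈ t.asIdeal := by
      by_contra h'; exact hn (Or.inr h')
    exact t.2.ne_top (top_le_iff.mp (hcov ▸ Ideal.span_le.mpr (by simp [Set.insert_subset_iff, h1, h2])))
  have hr : Set.range (𝟙 (Spec A) : Spec A ⟶ Spec A) ⊆ Set.range (U ⊔ V).ι := by
    rw [Scheme.Opens.range_ι, htop]; exact fun _ _ => trivial
  let s := IsOpenImmersion.lift (U ⊔ V).ι (𝟙 (Spec A)) hr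
  have hs : s ≫ (U ⊔ V).ι = 𝟙 _ := IsOpenImmersion.lift_fac _ _ _
  have hfac : ∀ (P : Scheme.{u}) (q : P ⟶ (U ⊔ V : (Spec A).Opens)), (q ≫ (U ⊔ V).ι) ≫ s = q := by
    intro P q
    rw [← cancel_mono (U ⊔ V).ι, Category.assoc, hs, Category.comp_id]
  have hFw : F ≫ X.hom = (U ⊔ V).ι ≫ str := Rat20Lib.hom_ext_sup _ _
    (by rw [← Category.assoc, hF₁, hw₁, ← Category.assoc, Scheme.homOfLE_ι])
    (by rw [← Category.assoc, hF₂, hw₂, ← Category.assoc, Scheme.homOfLE_ι])
  refine ⟨Over.homMk (s ≫ F) (by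
    show (s ≫ F) ≫ X.hom = str
    rw [Category.assoc, hFw, ← Category.assoc, hs, Category.id_comp]), ?_, ?_⟩
  · refine Over.OverMorphism.ext ?_
    show Spec.map (CommRingCat.ofHom (algebraMap k[X] (Localization.Away g₁))) ≫ s ≫ F = f₁.left
    rw [← Iso.inv_hom_id_assoc e₁ f₁.left, show e₁.hom ≫ f₁.left = p₁ from rfl, ← hF₁, ← Category.assoc,
      ← Category.assoc e₁.inv]
    congr 1
    rw [← hfac _ (e₁.inv ≫ (Spec A).homOfLE le_sup_left), Category.assoc e₁.inv, Scheme.homOfLE_ι,
      ← basicOpenIsoSpecAway_hom_SpecMap (R := A) g₁, Iso.inv_hom_id_assoc]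
  · refine Over.OverMorphism.ext ?_
    show Spec.map (CommRingCat.ofHom (algebraMap k[X] (Localization.Away g₂))) ≫ s ≫ F = f₂.left
    rw [← Iso.inv_hom_id_assoc e₂ f₂.left, show e₂.hom ≫ f₂.left = p₂ from rfl, ← hF₂, ← Category.assoc,
      ← Category.assoc e₂.inv]
    congr 1
    rw [← hfac _ (e₂.inv ≫ (Spec A).homOfLE le_sup_right), Category.assoc e₂.inv, Scheme.homOfLE_ι,
      ← basicOpenIsoSpecAway_hom_SpecMap (R := A) g₂, Iso.inv_hom_id_assoc]

/-- Any curve over the function field extends to an open neighbourhood of the origin; together with a curve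
on the punctured line this gives a curve on the affine line. -/
theorem exists_extension [IsProper X.hom] (f : VecGrp.pt k (Localization.Away (Polynomial.X : k[X])) ⟶ X)
    (i : Localization.Away (Polynomial.X : k[X]) →ₐ[k] FF k)
    (hi : ∀ a, i (algebraMap k[X] _ a) = algebraMap (Loc k) (FF k) (algebraMap k[X] (Loc k) a)) :
    ∃ F : VecGrp.pt k k[X] ⟶ X,
      VecGrp.ptMap (IsScalarTower.toAlgHom k k[X] (Localization.Away (Polynomial.X : k[X]))) ≫ F = f := by
  obtain ⟨y, hy⟩ := exists_locPoint (VecGrp.ptMap i ≫ f)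
  obtain ⟨g, hg, f', j, hj, hj'⟩ := exists_away y
  have hcov : Ideal.span ({Polynomial.X, g} : Set k[X]) = ⊤ := by
    by_contra hne
    obtain ⟨M, hM, hle⟩ := Ideal.exists_le_maximal _ hne
    have hX : originIdeal k ≤ M := (Ideal.span_mono (by simp)).trans hle
    have := (PrincipalIdealRing.isMaximal_of_irreducible (Polynomial.irreducible_X (R := k))).eq_of_le hM.ne_top hX
    refine hg ?_
    rw [show originIdeal k = M from this]
    exact hle (Ideal.subset_span (by simp))
  obtain ⟨F, hF, -⟩ := exists_glue_line Polynomial.X g hcov f f' i (locToFF.comp j)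
    (fun a => by rw [hi, AlgHom.comp_apply, hj']; rfl)
    (fun a ha => by
      rw [hi] at ha
      exact loc_injective ((IsFractionRing.injective (Loc k) (FF k) (ha.trans (map_zero _).symm)).trans (map_zero _).symm))
    (by rw [← ptMap_comp, Category.assoc, hj, hy])
  exact ⟨F, hF⟩

end Groth.Agent.HMSec
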