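import Groth.Agent.HMSec.Torus

/-! Finite families of weight vectors among the sections, and the numerical function in terms of them. -/

set_option autoImplicit false
set_option linter.unusedSectionVars false
set_option backward.isDefEq.respectTransparency false
set_option backward.isDefEq.respectTransparency.types false

universe u

open CategoryTheory CategoryTheory.Limits MonoidalCategory CartesianMonoidalCategory MonObj GrpObj AlgebraicGeometry
open Opposite TopologicalSpace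
open Groth.Agent.GrpSchLib.Kunneth (Fn ev pullFn)

namespace Groth.Agent.HMSec

variable {k : Type u} [Field k] {G X T : Over (Spec (CommRingCat.of k))} [GrpObj G] [GrpObj T]
variable {a : AlgGrp.Action G X} (B : GLinSh.LinBun G a) (D : CharData T) (i : T ⟶ G)

/-- Sections of one positive degree which are weight vectors of the torus and have no common zero. -/
structure Family where
  deg : ℕ
  deg_pos : 1 ≤ deg
  card : ℕ
  f : Fin card → Fn B.V
  χ : Fin card → D.J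
  hom : ∀ r, IsHom B deg (f r)
  eig : ∀ (r : Fin card) (K : Type u) [Field K] [Algebra k K] (g : VecGrp.pt k K ⟶ T) (v : VecGrp.pt k K ⟶ B.V),
    pullFn (lift (g ≫ i) v ≫ B.lift.act) (f r) = pullFn g (D.c (χ r)) * pullFn v (f r)
  cover : ∀ v : VecGrp.pt k k ⟶ B.V, Gd B v → ∃ r, pullFn v (f r) ≠ 0

variable {B D i}

theorem exists_family [IsMonHom i] [IsProper X.hom] [QuasiCompact T.hom] [IsSeparated T.hom]
    (hB : HMNum.AmpleCover B) : Nonempty (Family B D i) := by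
  classical
  obtain ⟨hcpt, hcov⟩ := hB
  choose n f hn hw hmem U hU _ using hcov
  obtain ⟨s, hs⟩ := isCompact_univ.elim_finite_subcover (fun x => (U x : Set X.left)) (fun x => (U x).isOpen)
    fun x _ => Set.mem_iUnion.mpr ⟨x, by rw [hU x]; exact hmem x⟩
  let N := ∏ x ∈ s, n x
  have hN : 1 ≤ N := Nat.one_le_iff_ne_zero.mpr (Finset.prod_ne_zero_iff.mpr fun x _ => (Nat.one_le_iff_ne_zero.mp (hn x)))
  have hdvd : ∀ x ∈ s, n x * (N / n x) = N := fun x hx =>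
    Nat.mul_div_cancel' (Finset.dvd_prod_of_mem n hx)
  haveI : IsAffineHom B.π.left := B.atlas.affine
  haveI : QuasiCompact B.V.hom := by
    have : QuasiCompact (B.π.left ≫ X.hom) := inferInstance
    rwa [Over.w B.π] at this
  haveI : IsSeparated B.V.hom := by
    have : IsSeparated (B.π.left ≫ X.hom) := inferInstance
    rwa [Over.w B.π] at this
  let F : X.left → Fn B.V := fun x => f x ^ (N / n x)
  choose t w hexp using fun x => D.exists_expand i B.lift (F x)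
  have hpt : ∀ (K : Type u) [Field K] [Algebra k K] (x : X.left) (t₀ : VecGrp.pt k k ⟶ T) (v : VecGrp.pt k K ⟶ B.V),
      pullFn (lift ((VecGrp.ptMap (Algebra.ofId k K) ≫ t₀) ≫ i) v ≫ B.lift.act) (F x) =
        ∑ j ∈ t x, algebraMap k K (pullFn t₀ (D.c j)) * pullFn v (w x j) := fun K _ _ x t₀ v => by
    rw [hexp x K]
    exact Finset.sum_congr rfl fun j _ => by rw [GrpSchLib.Kunneth.pullFn_ptMap]; rfl
  have heig : ∀ (x : X.left), ∀ j ∈ t x, ∀ (K : Type u) [Field K] [Algebra k K] (g : VecGrp.pt k K ⟶ T)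
      (v : VecGrp.pt k K ⟶ B.V),
      pullFn (lift (g ≫ i) v ≫ B.lift.act) (w x j) = pullFn g (D.c j) * pullFn v (w x j) := by
    intro x j hj K _ _ g v
    refine sub_eq_zero.mp (D.indep (t x)
      (fun j => pullFn (lift (g ≫ i) v ≫ B.lift.act) (w x j) - pullFn g (D.c j) * pullFn v (w x j)) (fun t₀ => ?_) j hj)
    simp only [mul_sub, Finset.sum_sub_distrib]
    rw [← hpt K x t₀, GrpSchLib.act_mul, ← MonObj.mul_comp, hexp x K, sub_eq_zero]
    exact Finset.sum_congr rfl fun j _ => by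
      rw [D.mul, GrpSchLib.Kunneth.pullFn_ptMap, _root_.mul_assoc]; rfl
  have hhom : ∀ x ∈ s, ∀ j ∈ t x, IsHom B N (w x j) := by
    intro x hx j hj K _ _ c v v' hc
    refine sub_eq_zero.mp (D.indep (t x) (fun j => pullFn v' (w x j) - c ^ N * pullFn v (w x j)) (fun t₀ => ?_) j hj)
    have h := IsHom.pow B (isHom_of_hasWeight B (hw x)) (N / n x) K c _ _
      (hc.act B ((VecGrp.ptMap (Algebra.ofId k K) ≫ t₀) ≫ i))
    rw [hdvd x hx, hpt K x t₀, hpt K x t₀, Finset.mul_sum] at h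
    simp only [mul_sub, Finset.sum_sub_distrib]
    rw [sub_eq_zero]
    exact h.trans (Finset.sum_congr rfl fun j _ => by ring)
  let Idx := (x : s) × (t x.1)
  let e := Fintype.equivFin Idx
  refine ⟨{
    deg := N
    deg_pos := hN
    card := Fintype.card Idx
    f := fun r => w (e.symm r).1.1 (e.symm r).2.1
    χ := fun r => (e.symm r).2.1
    hom := fun r => hhom _ (e.symm r).1.2 _ (e.symm r).2.2
    eig := fun r => heig _ _ (e.symm r).2.2
    cover := fun v hv => ?_ }⟩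
  obtain ⟨x, hx, hxU⟩ : ∃ x ∈ s, (v ≫ B.π).left.base (IsLocalRing.closedPoint k) ∈ GLinSh.nonvanishing B.π (f x) := by
    obtain ⟨x, hx, h⟩ := Set.mem_iUnion₂.mp (hs (Set.mem_univ ((v ≫ B.π).left.base (IsLocalRing.closedPoint k))))
    exact ⟨x, hx, hU x ▸ h⟩
  have h0 := (mem_nonvanishing_iff B (hw x) v hv).mp hxU
  have h1 := hexp x k (1 : VecGrp.pt k k ⟶ T) v
  rw [MonObj.one_comp, GrpSchLib.act_one, map_pow] at h1
  obtain ⟨j, hj, hjne⟩ : ∃ j ∈ t x, pullFn v (w x j) ≠ 0 := by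
    by_contra! hall
    exact pow_ne_zero (N / n x) h0 (h1.trans (Finset.sum_eq_zero fun j hj => by rw [hall j hj, mul_zero]))
  exact ⟨e ⟨⟨x, hx⟩, ⟨j, hj⟩⟩, by rw [Equiv.symm_apply_apply]; exact hjne⟩

theorem isUnit_of_locEval {r : Loc k} (h : locEval r ≠ 0) : IsUnit r := by
  by_contra hr
  have hker : RingHom.ker (locEval (k := k)).toRingHom = IsLocalRing.maximalIdeal (Loc k) :=
    IsLocalRing.eq_maximalIdeal (RingHom.ker_isMaximal_of_surjective _ fun c => ⟨algebraMap k _ c, AlgHom.commutes _ c⟩)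
  exact h (RingHom.mem_ker.mp (hker ▸ (IsLocalRing.mem_maximalIdeal r).mpr hr))

/-- The weight at the limit is the least weight of a section of the family not vanishing at the point. -/
theorem Family.weight_eq [IsMonHom i] (Φ : Family B D i) {l : Red.Gm (Spec (CommRingCat.of k)) ⟶ T} [IsMonHom l]
    {x y : 𝟙_ (Over (Spec (CommRingCat.of k))) ⟶ X} (hy : HMNum.IsLimitPt a (l ≫ i) x y) {w : ℤ}
    (hw : HMNum.HasFibreWeight B (l ≫ i) y w) {v₀ : VecGrp.pt k k ⟶ B.V} (hv₀ : v₀ ≫ B.π = cst x k) (hg₀ : Gd B v₀) :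
    ∃ r, pullFn v₀ (Φ.f r) ≠ 0 ∧ (Φ.deg : ℤ) * w = D.pair (Φ.χ r) l ∧
      ∀ r', pullFn v₀ (Φ.f r') ≠ 0 → D.pair (Φ.χ r) l ≤ D.pair (Φ.χ r') l := by
  obtain ⟨vy, hvy, hgy⟩ := exists_gd B (cst y k)
  obtain ⟨r, hr⟩ := Φ.cover vy hgy
  let e := Algebra.ofId k (FF k)
  let g := gmPt (k := k) (ffU k)
  have hshift : ∀ (r' : Fin Φ.card) (v : VecGrp.pt k (FF k) ⟶ B.V),
      pullFn (lift (g ≫ l ≫ i) v ≫ B.lift.act) (Φ.f r') =
        ((ffU k ^ D.pair (Φ.χ r') l : (FF k)ˣ) : FF k) * pullFn v (Φ.f r') := fun r' v => by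
    have h := Φ.eig r' (FF k) (g ≫ l) v
    rw [D.pair_spec, gmVal_gmPt, Category.assoc] at h
    exact h
  have hvy' : (VecGrp.ptMap e ≫ vy) ≫ B.π = cst y (FF k) := by rw [Category.assoc, hvy, ptMap_cst]
  have hrel := Φ.hom r (FF k) _ _ _ (rel_of_hasFibreWeight B hw g hvy')
  rw [hshift, GrpSchLib.Kunneth.pullFn_ptMap, ← Units.val_pow_eq_pow_val, gmVal_gmPt] at hrel
  have hne : e (pullFn vy (Φ.f r)) ≠ 0 := fun h => hr ((algebraMap k (FF k)).injective (h.trans (map_zero _).symm))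
  have hd : (Φ.deg : ℤ) * w = D.pair (Φ.χ r) l := by
    refine (pow_ffX_injective (k := k) (Units.ext ((mul_right_cancel₀ hne hrel).trans ?_))).symm
    rw [mul_comm, _root_.zpow_mul, zpow_natCast]
  obtain ⟨p, hp, hp0⟩ := exists_locPoint_limit hy
  obtain ⟨vR, hvR, hgR⟩ := exists_gd B p
  let vK := lift (g ≫ l ≫ i) (VecGrp.ptMap e ≫ v₀) ≫ B.lift.act
  have hvK : vK ≫ B.π = (VecGrp.ptMap locToFF ≫ vR) ≫ B.π := by
    rw [act_π, Category.assoc, hv₀, ptMap_cst, Category.assoc, hvR, hp]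
  obtain ⟨s, hs, hsu⟩ := exists_rel B (hgR.map B locToFF) hvK
  have hs0 : s ≠ 0 := (hsu ((hg₀.map B e).act B _)).ne_zero
  have hval : ∀ r', ((ffU k ^ D.pair (Φ.χ r') l : (FF k)ˣ) : FF k) * algebraMap k (FF k) (pullFn v₀ (Φ.f r')) =
      s ^ Φ.deg * locToFF (pullFn vR (Φ.f r')) := fun r' => by
    have h := Φ.hom r' (FF k) _ _ _ hs
    rw [GrpSchLib.Kunneth.pullFn_ptMap] at h
    rw [← h, hshift, GrpSchLib.Kunneth.pullFn_ptMap]
    rfl
  have hclosed : (VecGrp.ptMap locEval ≫ vR) ≫ B.π = cst y k := by rw [Category.assoc, hvR, hp0]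
  obtain ⟨t, ht, htu⟩ := exists_rel B hgy (hclosed.trans hvy.symm)
  have hu : IsUnit (pullFn vR (Φ.f r)) := isUnit_of_locEval (by
    rw [← GrpSchLib.Kunneth.pullFn_ptMap, Φ.hom r k _ _ _ ht]
    exact mul_ne_zero (pow_ne_zero _ (htu (hgR.map B locEval)).ne_zero) hr)
  have hr0 : pullFn v₀ (Φ.f r) ≠ 0 := fun h => by
    have h1 := hval r
    rw [h, map_zero, mul_zero, eq_comm, mul_eq_zero] at h1
    rcases h1 with h1 | h1
    · exact pow_ne_zero _ hs0 h1
    · exact hu.ne_zero (ff_injective (h1.trans (map_zero _).symm))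
  refine ⟨r, hr0, hd, fun r' hr' => ?_⟩
  by_contra hlt
  obtain ⟨m, hm, hm0⟩ : ∃ m : ℕ, D.pair (Φ.χ r) l = D.pair (Φ.χ r') l + m ∧ m ≠ 0 :=
    ⟨(D.pair (Φ.χ r) l - D.pair (Φ.χ r') l).toNat, by omega, by omega⟩
  have h1 := hval r
  have h2 := hval r'
  rw [hm, _root_.zpow_add, Units.val_mul, zpow_natCast, Units.val_pow_eq_pow_val] at h1
  set A := ((ffU k ^ D.pair (Φ.χ r') l : (FF k)ˣ) : FF k)
  have hA : A ≠ 0 := Units.ne_zero _
  have h3 : A * (algebraMap k (FF k) (pullFn v₀ (Φ.f r')) * locToFF (pullFn vR (Φ.f r))) =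
      A * (((ffU k : (FF k)ˣ) : FF k) ^ m * algebraMap k (FF k) (pullFn v₀ (Φ.f r)) * locToFF (pullFn vR (Φ.f r'))) := by
    linear_combination (locToFF (pullFn vR (Φ.f r))) * h2 - (locToFF (pullFn vR (Φ.f r'))) * h1
  have h4 : algebraMap k (Loc k) (pullFn v₀ (Φ.f r')) * pullFn vR (Φ.f r) =
      locX k ^ m * algebraMap k (Loc k) (pullFn v₀ (Φ.f r)) * pullFn vR (Φ.f r') := by
    have h6 := mul_left_cancel₀ hA h3
    rw [← (locToFF (k := k)).commutes, ← (locToFF (k := k)).commutes,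
      show ((ffU k : (FF k)ˣ) : FF k) = locToFF (locX k) from rfl, ← map_pow, ← map_mul, ← map_mul, ← map_mul] at h6
    exact ff_injective h6
  have h5 : IsUnit (locX k ^ m * algebraMap k (Loc k) (pullFn v₀ (Φ.f r)) * pullFn vR (Φ.f r')) :=
    h4 ▸ ((isUnit_iff_ne_zero.mpr hr').map (algebraMap k (Loc k))).mul hu
  exact not_isUnit_locX ((isUnit_pow_iff hm0).mp (isUnit_of_mul_isUnit_left (isUnit_of_mul_isUnit_left h5)))

theorem isAffine_quasiCompact [IsAlgClosed k] (hT : Red.IsTorus T) : QuasiCompact T.hom ∧ IsSeparated T.hom := by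
  have := isAffineHom_of_isTorus hT
  exact ⟨inferInstance, inferInstance⟩

/-- The numerical function along a torus. -/
theorem Family.isMu_iff [IsMonHom i] [IsProper X.hom] (Φ : Family B D i) {v₀ : VecGrp.pt k k ⟶ B.V}
    {x : 𝟙_ (Over (Spec (CommRingCat.of k))) ⟶ X} (hv₀ : v₀ ≫ B.π = cst x k) (hg₀ : Gd B v₀)
    (l : Red.Gm (Spec (CommRingCat.of k)) ⟶ T) [IsMonHom l] (m : ℤ) :
    HMNum.IsMu B (l ≫ i) x m ↔ ∃ r, pullFn v₀ (Φ.f r) ≠ 0 ∧ (m : ℚ) = -(D.pair (Φ.χ r) l : ℚ) / Φ.deg ∧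
      ∀ r', pullFn v₀ (Φ.f r') ≠ 0 → -(D.pair (Φ.χ r') l : ℚ) / Φ.deg ≤ -(D.pair (Φ.χ r) l : ℚ) / Φ.deg := by
  have hN : (0 : ℚ) < (Φ.deg : ℚ) := Nat.cast_pos.mpr Φ.deg_pos
  have key : ∀ (y : 𝟙_ (Over (Spec (CommRingCat.of k))) ⟶ X) (w : ℤ), HMNum.IsLimitPt a (l ≫ i) x y →
      HMNum.HasFibreWeight B (l ≫ i) y w → ∃ r, pullFn v₀ (Φ.f r) ≠ 0 ∧
        ((-w : ℤ) : ℚ) = -(D.pair (Φ.χ r) l : ℚ) / Φ.deg ∧
        ∀ r', pullFn v₀ (Φ.f r') ≠ 0 → -(D.pair (Φ.χ r') l : ℚ) / Φ.deg ≤ -(D.pair (Φ.χ r) l : ℚ) / Φ.deg := by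
    intro y w hy hw
    obtain ⟨r, hr, he, hmin⟩ := Φ.weight_eq hy hw hv₀ hg₀
    refine ⟨r, hr, ?_, fun r' hr' => ?_⟩
    · rw [eq_div_iff hN.ne', ← he]
      push_cast
      ring
    · have : (D.pair (Φ.χ r) l : ℚ) ≤ (D.pair (Φ.χ r') l : ℚ) := Int.cast_le.mpr (hmin r' hr')
      gcongr
  constructor
  · rintro ⟨y, hy, hw⟩
    obtain ⟨r, hr, he, hmax⟩ := key y _ hy hw
    exact ⟨r, hr, by rw [← he, _root_.neg_neg], hmax⟩
  · rintro ⟨r, hr, he, hmax⟩
    obtain ⟨y, hy⟩ := exists_isLimitPt (a := a) (l := l ≫ i) x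
    obtain ⟨w, hw⟩ := exists_hasFibreWeight B (HMTransLib.isFixedBy_of_isLimitPt hy)
    obtain ⟨r₁, hr₁, he₁, hmax₁⟩ := key y w hy hw
    have : (m : ℚ) = ((-w : ℤ) : ℚ) := by
      rw [he, he₁]; exact le_antisymm (hmax₁ r hr) (hmax r₁ hr₁)
    rw [Int.cast_inj] at this
    exact ⟨y, hy, by rw [this, _root_.neg_neg]; exact hw⟩

end Groth.Agent.HMSec
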