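import Groth.Agent.HMSec.Fibre
import Groth.Agent.HMSec.Line
import Groth.Agent.HMSec.Extend

/-! Existence of limits and of fibre weights, and limits seen over the local ring of the affine line. -/

set_option autoImplicit false
set_option linter.unusedSectionVars false
set_option backward.isDefEq.respectTransparency false
set_option backward.isDefEq.respectTransparency.types false

universe u

open CategoryTheory CategoryTheory.Limits MonoidalCategory CartesianMonoidalCategory MonObj GrpObj AlgebraicGeometry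
open Opposite TopologicalSpace Magnet
open Groth.Agent.GrpSchLib.Kunneth (Fn ev pullFn)

namespace Groth.Agent.HMSec

variable {k : Type u} [Field k] {G X : Over (Spec (CommRingCat.of k))} [GrpObj G]
variable {a : AlgGrp.Action G X} {l : Red.Gm (Spec (CommRingCat.of k)) ⟶ G} [IsMonHom l]

/-- The coordinate as a unit of the function field. -/
noncomputable def ffU (k : Type u) [Field k] : (FF k)ˣ := Units.mk0 (ffX k) ffX_ne_zero

/-- The coordinate as a unit away from the origin. -/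
noncomputable def awU (k : Type u) [Field k] : (Localization.Away (Polynomial.X : Polynomial k))ˣ :=
  (IsLocalization.map_units (Localization.Away (Polynomial.X : Polynomial k))
    (⟨Polynomial.X, Submonoid.mem_powers _⟩ : Submonoid.powers (Polynomial.X : Polynomial k))).unit

theorem gmFn_gmPt {R : Type u} [CommRing R] [Algebra k R] (b : Rˣ) :
    Red.gmFn (gmPt (k := k) b) = (Scheme.ΓSpecIso (CommRingCat.of R)).inv (b : R) :=
  GmPts.gmFn_ptOfUnit _

/-- A curve restricting to the orbit map on the punctured line is equivariant. -/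
theorem equivariant_of_orbit [IsSeparated X.hom] (x : 𝟙_ (Over (Spec (CommRingCat.of k))) ⟶ X)
    (ψ : HMNum.A1 (Spec (CommRingCat.of k)) ⟶ X)
    (h : ∀ (T : Over (Spec (CommRingCat.of k))) (g : T ⟶ Red.Gm (Spec (CommRingCat.of k))),
      g ≫ HMNum.incl (Spec (CommRingCat.of k)) ≫ ψ = lift (g ≫ l) (toUnit T ≫ x) ≫ a.act)
    {T : Over (Spec (CommRingCat.of k))} (s : T ⟶ Red.Gm (Spec (CommRingCat.of k)))
    (b : T ⟶ HMNum.A1 (Spec (CommRingCat.of k))) :
    (lift s b ≫ (Magnet.subAct _ ℤ HMNum.plus).act) ≫ ψ = lift (s ≫ l) (b ≫ ψ) ≫ a.act := by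
  have key : (lift (snd (HMNum.A1 (Spec (CommRingCat.of k))) (Red.Gm _)) (fst _ _) ≫
      (Magnet.subAct _ ℤ HMNum.plus).act) ≫ ψ =
      lift (snd (HMNum.A1 (Spec (CommRingCat.of k))) (Red.Gm _) ≫ l) (fst _ _ ≫ ψ) ≫ a.act := by
    refine Groth.Agent.MagnetLib.ext_of_AMonS_map (X := X) HMNum.plus.subtype Subtype.val_injective
      (Red.Gm (Spec (CommRingCat.of k))) _ _ ?_
    apply Magnet.hom_ext_lift₂
    intro T' s' u
    rw [lift_whiskerRight_assoc, lift_whiskerRight_assoc]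
    simp only [lift_fst_assoc, lift_snd_assoc, ← Category.assoc, comp_lift, lift_fst, lift_snd]
    have e : lift u (s' ≫ Magnet.AMonS.map _ HMNum.plus.subtype) ≫ (Magnet.subAct _ ℤ HMNum.plus).act =
        (u * s') ≫ HMNum.incl (Spec (CommRingCat.of k)) := by
      rw [Magnet.subAct, Magnet.MonAct.lift_restrict_act, Magnet.MonAct.lift_regular_act, MonObj.mul_comp]
    rw [e, Category.assoc (u * s'), h, Category.assoc s', h, GrpSchLib.act_mul, MonObj.mul_comp]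
  have := congrArg (fun z => lift b s ≫ z) key
  simpa only [← Category.assoc, comp_lift, lift_fst, lift_snd] using this

theorem exists_isLimitPt [IsProper X.hom] (x : 𝟙_ (Over (Spec (CommRingCat.of k))) ⟶ X) :
    ∃ y, HMNum.IsLimitPt a l x y := by
  let S := Spec (CommRingCat.of k)
  let A := Localization.Away (Polynomial.X : Polynomial k)
  let f : VecGrp.pt k A ⟶ X := lift (gmPt (k := k) (awU k) ≫ l) (cst x A) ≫ a.act
  let i : A →ₐ[k] FF k :=
    IsLocalization.liftAlgHom (M := Submonoid.powers (Polynomial.X : Polynomial k))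
      (f := locToFF.comp (IsScalarTower.toAlgHom k (Polynomial k) (Loc k))) fun t => by
        obtain ⟨n, hn⟩ := t.2
        rw [← hn, map_pow]
        exact (isUnit_iff_ne_zero.mpr (ffX_ne_zero (k := k))).pow n
  obtain ⟨F, hF⟩ := exists_extension f i fun p => by
    show IsLocalization.lift _ _ = _
    rw [IsLocalization.lift_eq]
    rfl
  let cur : ∀ (T : Over S), Γ(T.left, ⊤) → (T ⟶ X) := fun T b => toSpec T (Polynomial.aeval b) ≫ F
  have hcur : ∀ {T T' : Over S} (t : T' ⟶ T) (b : Γ(T.left, ⊤)), t ≫ cur T b = cur T' (ev t b) := by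
    intro T T' t b
    show t ≫ toSpec T _ ≫ F = toSpec T' _ ≫ F
    rw [← Category.assoc, comp_toSpec, Polynomial.aeval_algHom]
  have hgm : ∀ (T : Over S) (g : T ⟶ Red.Gm S), cur T (Red.gmFn g) = lift (g ≫ l) (toUnit T ≫ x) ≫ a.act := by
    intro T g
    let ψ : A →ₐ[k] Fn T :=
      IsLocalization.liftAlgHom (M := Submonoid.powers (Polynomial.X : Polynomial k))
        (f := Polynomial.aeval (Red.gmFn g : Fn T)) fun t => by
          obtain ⟨t, n, rfl⟩ := t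
          rw [map_pow, Polynomial.aeval_X]
          exact (GmPts.isUnit_gmFn g).pow n
    have h1 : toSpec T ψ ≫ VecGrp.ptMap (IsScalarTower.toAlgHom k (Polynomial k) A) =
        toSpec T (Polynomial.aeval (Red.gmFn g : Fn T)) := by
      rw [toSpec_comp]
      congr 1
      refine AlgHom.ext fun p => ?_
      show IsLocalization.lift _ (algebraMap (Polynomial k) A p) = _
      rw [IsLocalization.lift_eq]
      rfl
    have h2 : toSpec T ψ ≫ gmPt (k := k) (awU k) = g := by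
      apply GmPts.gmFn_injective
      show Red.gmFn _ = Red.gmFn g
      rw [GmPts.gmFn_comp, gmFn_gmPt]
      refine (ev_toSpec ψ _).trans ?_
      show IsLocalization.lift _ (algebraMap (Polynomial k) A Polynomial.X) = _
      rw [IsLocalization.lift_eq]
      exact Polynomial.aeval_X _
    show toSpec T _ ≫ F = _
    rw [← h1, Category.assoc, hF]
    show toSpec T ψ ≫ lift (gmPt (k := k) (awU k) ≫ l) (cst x A) ≫ a.act = _
    rw [← Category.assoc, comp_lift, ← Category.assoc, h2, cst, ← Category.assoc, comp_toUnit]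
  let φ : HMNum.A1 S ⊗ 𝟙_ (Over S) ⟶ X := fst _ _ ≫ cur _ (a1Fn (𝟙 (HMNum.A1 S)))
  have hφ : ∀ {T : Over S} (z : T ⟶ HMNum.A1 S) (t : T ⟶ 𝟙_ _), lift z t ≫ φ = cur T (a1Fn z) := by
    intro T z t
    show lift z t ≫ fst _ _ ≫ _ = _
    rw [lift_fst_assoc, hcur]
    exact congrArg (cur T) ((a1Fn_comp z (𝟙 _)).symm.trans (by rw [Category.comp_id]))
  have hφgm : ∀ {T : Over S} (g : T ⟶ Red.Gm S) (t : T ⟶ 𝟙_ _),
      lift (g ≫ HMNum.incl S) t ≫ φ = lift (g ≫ l) (toUnit T ≫ x) ≫ a.act := fun g t => by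
    rw [hφ, a1Fn_incl, hgm]
  let ψ : HMNum.A1 S ⟶ X := cur _ (a1Fn (𝟙 (HMNum.A1 S)))
  have hψ : ∀ (T : Over S) (g : T ⟶ Red.Gm S),
      g ≫ HMNum.incl S ≫ ψ = lift (g ≫ l) (toUnit T ≫ x) ≫ a.act := fun T g => by
    rw [← hφgm g (toUnit T)]
    show _ = lift _ _ ≫ fst _ _ ≫ ψ
    rw [lift_fst_assoc, Category.assoc]
  refine ⟨_, ⟨⟨φ, ?_⟩, ?_, rfl⟩⟩
  · rw [Magnet.MonAct.mem_eqvHom_iff]
    intro T s b t
    rw [Magnet.MonAct.lift_restrict_act, Magnet.MonAct.ofAction_act]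
    show lift (lift s b ≫ _) t ≫ fst _ _ ≫ ψ = lift (s ≫ l) (lift b t ≫ fst _ _ ≫ ψ) ≫ a.act
    rw [lift_fst_assoc, lift_fst_assoc]
    exact equivariant_of_orbit x ψ hψ s b
  · simp only [Magnet.MonAct.eqvHom.evalAt_app]
    show lift (toUnit _ ≫ η[HMNum.A1 S]) (𝟙 _) ≫ φ = x
    have e : toUnit (𝟙_ (Over S)) ≫ η[HMNum.A1 S] = (1 : 𝟙_ _ ⟶ Red.Gm S) ≫ HMNum.incl S := by
      rw [MonObj.one_comp, Hom.one_def]
    rw [e, hφgm, MonObj.one_comp, GrpSchLib.act_one, toUnit_unit, Category.id_comp]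

/-- The limit seen over the local ring at the origin. -/
theorem exists_locPoint_limit {x y : 𝟙_ (Over (Spec (CommRingCat.of k))) ⟶ X} (h : HMNum.IsLimitPt a l x y) :
    ∃ p : VecGrp.pt k (Loc k) ⟶ X,
      VecGrp.ptMap locToFF ≫ p = lift (gmPt (k := k) (ffU k) ≫ l) (cst x (FF k)) ≫ a.act ∧
      VecGrp.ptMap locEval ≫ p = cst y k := by
  obtain ⟨φ, hx, hy⟩ := h
  let S := Spec (CommRingCat.of k)
  obtain ⟨z, hz⟩ := exists_a1Fn_eq (S := S) (T := VecGrp.pt k (Loc k))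
    ((Scheme.ΓSpecIso (CommRingCat.of (Loc k))).inv (locX k))
  have hnat : ∀ {R' : Type u} [CommRing R'] [Algebra k R'] (ψ : Loc k →ₐ[k] R'),
      a1Fn (VecGrp.ptMap ψ ≫ z) = (Scheme.ΓSpecIso (CommRingCat.of R')).inv (ψ (locX k)) := by
    intro R' _ _ ψ
    rw [a1Fn_comp, hz]
    exact (ConcreteCategory.congr_hom (Scheme.ΓSpecIso_inv_naturality (CommRingCat.ofHom ψ.toRingHom)) (locX k)).symm
  refine ⟨lift z (toUnit _) ≫ φ.1, ?_, ?_⟩
  · have h1 : VecGrp.ptMap locToFF ≫ z = gmPt (k := k) (ffU k) ≫ HMNum.incl S :=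
      a1Fn_injective (by rw [hnat, a1Fn_incl, gmFn_gmPt]; rfl)
    rw [comp_lift_assoc, h1, comp_toUnit, ← HMTransLib.one_mul_incl, HMTransLib.eqv_apply φ]
    congr 2
    simp only [Magnet.MonAct.eqvHom.evalAt_app] at hx
    rw [cst, ← hx, comp_lift_assoc, Category.comp_id, ← Category.assoc, comp_toUnit]
  · have h1 : VecGrp.ptMap locEval ≫ z = toUnit _ ≫ HMNum.origin S :=
      a1Fn_injective (by rw [hnat, a1Fn_origin, locEval_locX, map_zero])
    rw [comp_lift_assoc, h1, comp_toUnit, cst, ← hy, HMNum.limitPt_eq, comp_lift_assoc, Category.comp_id,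
      ← Category.assoc, comp_toUnit]

omit [IsMonHom l] in
theorem evalFn_comp (B : GLinSh.LinBun G a) {U : X.left.Opens} (y : Γ(B.V.left, B.π.left ⁻¹ᵁ U))
    {T T' : Over (Spec (CommRingCat.of k))} (t : T' ⟶ T) (v : T ⟶ B.V) (h : ⊤ ≤ v.left ⁻¹ᵁ (B.π.left ⁻¹ᵁ U))
    (h' : ⊤ ≤ (t ≫ v).left ⁻¹ᵁ (B.π.left ⁻¹ᵁ U)) :
    HMNum.evalFn B.π y (t ≫ v) h' = t.left.appTop (HMNum.evalFn B.π y v h) := by
  show (t.left ≫ v.left).appLE _ ⊤ h' y = _
  rw [← Scheme.Hom.appLE_comp_appLE t.left v.left (B.π.left ⁻¹ᵁ U) ⊤ ⊤ h le_top, CommRingCat.comp_apply, appLE_top]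
  rfl

/-- Every fixed rational point has a weight on its fibre. -/
theorem exists_hasFibreWeight (B : GLinSh.LinBun G a) {y : 𝟙_ (Over (Spec (CommRingCat.of k))) ⟶ X}
    (hfix : HMNum.IsFixedBy a l y) : ∃ w : ℤ, HMNum.HasFibreWeight B l y w := by
  let S := Spec (CommRingCat.of k)
  obtain ⟨U, Y, hY, hUy⟩ := exists_chart B (cst y k)
  obtain ⟨v₀, hv₀, hv₀1⟩ := exists_point B (cst y k) hY hUy 1
  let p₀ : 𝟙_ (Over S) ⟶ VecGrp.pt k k := toSpec _ (Algebra.ofId k _)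
  let v₁ : 𝟙_ (Over S) ⟶ B.V := p₀ ≫ v₀
  have hv₁ : v₁ ≫ B.π = y := by
    rw [Category.assoc, hv₀, cst, ← Category.assoc, comp_toUnit, toUnit_unit, Category.id_comp]
  have hU : y.left ⁻¹ᵁ U = ⊤ := by
    rw [← hv₁]
    refine top_le_iff.mp fun t _ => ?_
    have : ⊤ ≤ (v₀ ≫ B.π).left ⁻¹ᵁ U := by rw [hv₀]; exact hUy
    exact this (Set.mem_univ (p₀.left.base t))
  have hv₁1 : HMNum.evalFn B.π Y v₁ (HMNum.top_le_preimage B.π hU (t := 𝟙 _) (by rw [Category.id_comp, hv₁])) = 1 := by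
    have h0 : ⊤ ≤ v₀.left ⁻¹ᵁ (B.π.left ⁻¹ᵁ U) := by rw [top_le_of_comp, hv₀]; exact hUy
    rw [evalFn_comp B Y p₀ v₀ h0]
    have e : HMNum.evalFn B.π Y v₀ h0 = 1 := by
      have := hv₀1 h0
      rw [lval_evalFn] at this
      exact (ConcreteCategory.bijective_of_isIso (Scheme.ΓSpecIso (CommRingCat.of k)).hom).1
        (this.trans (map_one _).symm)
    rw [e, map_one]
  have key : ∀ {T : Over S} (g : T ⟶ Red.Gm S) (v : T ⟶ B.V), v ≫ B.π = toUnit T ≫ y →
      (lift (g ≫ l) v ≫ B.lift.act) ≫ B.π = toUnit T ≫ y := by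
    intro T g v hv
    rw [act_π, hv]
    exact hfix T (toUnit T) g
  have hL : ∀ {T : Over S} (v : T ⟶ B.V), v ≫ B.π = toUnit T ≫ y → ⊤ ≤ v.left ⁻¹ᵁ (B.π.left ⁻¹ᵁ U) :=
    fun v hv => HMNum.top_le_preimage B.π hU hv
  let gv : Red.Gm S ⟶ B.V := lift (𝟙 _ ≫ l) (toUnit _ ≫ v₁) ≫ B.lift.act
  have hgv : gv ≫ B.π = toUnit _ ≫ y := key (𝟙 _) _ (by rw [Category.assoc, hv₁])
  let C : Fn (Red.Gm S) := HMNum.evalFn B.π Y gv (hL gv hgv)
  have main : ∀ {T : Over S} (g : T ⟶ Red.Gm S) (v : T ⟶ B.V) (hv : v ≫ B.π = toUnit T ≫ y),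
      HMNum.evalFn B.π Y (lift (g ≫ l) v ≫ B.lift.act) (hL _ (key g v hv)) =
        ev g C * HMNum.evalFn B.π Y v (hL v hv) := by
    intro T g v hv
    have hxU : (toUnit T ≫ y).left ⁻¹ᵁ U = ⊤ := by
      show (toUnit T).left ⁻¹ᵁ (y.left ⁻¹ᵁ U) = ⊤
      rw [hU]; rfl
    have hxU' : (lift (g ≫ l) (toUnit T ≫ y) ≫ a.act).left ⁻¹ᵁ U = ⊤ := by
      rw [hfix T (toUnit T) g]; exact hxU
    obtain ⟨C', hC'⟩ := HMTransLib.evalFn_act B hY hY (g ≫ l) (toUnit T ≫ y) hxU hxU'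
    have hu : (toUnit T ≫ v₁) ≫ B.π = toUnit T ≫ y := by rw [Category.assoc, hv₁]
    have h1 := hC' _ hu (hL _ (key g _ hu)) (hL _ hu)
    have e1 : HMNum.evalFn B.π Y (toUnit T ≫ v₁) (hL _ hu) = 1 := by
      rw [evalFn_comp B Y (toUnit T) v₁
        (HMNum.top_le_preimage B.π hU (t := 𝟙 _) (by rw [Category.id_comp, hv₁])), hv₁1, map_one]
    have e2 : lift (g ≫ l) (toUnit T ≫ v₁) ≫ B.lift.act = g ≫ gv := by
      show _ = g ≫ lift _ _ ≫ _
      rw [← Category.assoc g, comp_lift, Category.id_comp, ← Category.assoc g, comp_toUnit]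
    have keyc : ∀ (u u' : T ⟶ B.V) (_ : u = u') (e₁ e₂), HMNum.evalFn B.π Y u e₁ = HMNum.evalFn B.π Y u' e₂ := by
      rintro u u' rfl e₁ e₂; rfl
    rw [e1, _root_.mul_one, keyc _ _ e2 _ (hL _ (e2 ▸ key g _ hu)), evalFn_comp B Y g gv (hL gv hgv)] at h1
    rw [hC' v hv _ (hL v hv), ← h1]
    rfl
  have hb : ∀ {R : Type u} [CommRing R] [Algebra k R] (g : VecGrp.pt k R ⟶ Red.Gm S),
      pullFn g C = lval (g ≫ gv) (B.π.left ⁻¹ᵁ U) (fun t _ => hL gv hgv (Set.mem_univ (g.left.base t))) Y := by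
    intro R _ _ g
    rw [lval_evalFn, evalFn_comp B Y g gv (hL gv hgv)]
    rfl
  have hev : ∀ {T : Over S} (g : T ⟶ Red.Gm S) (hu : (toUnit T ≫ v₁) ≫ B.π = toUnit T ≫ y),
      ev g C = HMNum.evalFn B.π Y (lift (g ≫ l) (toUnit T ≫ v₁) ≫ B.lift.act) (hL _ (key g _ hu)) := by
    intro T g hu
    rw [main g _ hu, evalFn_comp B Y (toUnit T) v₁
      (HMNum.top_le_preimage B.π hU (t := 𝟙 _) (by rw [Category.id_comp, hv₁])), hv₁1, map_one, _root_.mul_one]
  have keyc : ∀ {T : Over S} (u u' : T ⟶ B.V) (_ : u = u') (e₁ e₂),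
      HMNum.evalFn B.π Y u e₁ = HMNum.evalFn B.π Y u' e₂ := by
    rintro T u u' rfl e₁ e₂; rfl
  obtain ⟨d, hd⟩ := exists_zpow_gm C
    (fun R _ _ g h => by
      have hu : (toUnit (VecGrp.pt k R) ≫ v₁) ≫ B.π = toUnit _ ≫ y := by rw [Category.assoc, hv₁]
      have h1 := main g _ (key h _ hu)
      rw [← hev h hu, keyc _ _ (by rw [GrpSchLib.act_mul, MonObj.mul_comp]) _ (hL _ (key (g * h) _ hu)),
        ← hev (g * h) hu] at h1
      rw [GrpSchLib.Kunneth.pullFn_apply, h1, map_mul]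
      rfl)
    (fun R _ _ => by
      have hu : (toUnit (VecGrp.pt k R) ≫ v₁) ≫ B.π = toUnit _ ≫ y := by rw [Category.assoc, hv₁]
      rw [GrpSchLib.Kunneth.pullFn_apply, hev 1 hu,
        keyc _ _ (by rw [MonObj.one_comp, GrpSchLib.act_one]) _ (hL _ hu),
        evalFn_comp B Y (toUnit _) v₁ (HMNum.top_le_preimage B.π hU (t := 𝟙 _) (by rw [Category.id_comp, hv₁])),
        hv₁1, map_one, map_one])
  refine ⟨d, hfix, U, Y, hY, hU, fun T t g v hv hgv' => ?_⟩
  obtain rfl : t = toUnit T := Subsingleton.elim _ _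
  rw [main g v hv, hd T g]

end Groth.Agent.HMSec
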