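import Groth.Agent.HMSec.Limit
import Groth.Agent.RedSub30.TorusOverField
import Mathlib.FieldTheory.IsAlgClosed.Basic
import Mathlib.LinearAlgebra.LinearIndependent.Basic
import Mathlib.RingTheory.Norm.Basic

/-! Decomposition of functions into weights for a torus. -/

set_option autoImplicit false
set_option linter.unusedSectionVars false
set_option backward.isDefEq.respectTransparency false
set_option backward.isDefEq.respectTransparency.types false

universe u

open CategoryTheory CategoryTheory.Limits MonoidalCategory CartesianMonoidalCategory MonObj GrpObj AlgebraicGeometry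
open Opposite TopologicalSpace WithConv
open Groth.Agent.GrpSchLib.Kunneth (Fn ev pullFn)
open Groth.Agent.GrpSchLib.AffineHopf (sp spMap)

namespace Groth.Agent.HMSec

variable {k : Type u} [Field k]

theorem pow_ffX_injective {a b : ℤ} (h : (ffU k) ^ a = (ffU k) ^ b) : a = b := by
  have key : ∀ n : ℕ, (ffU k) ^ n = 1 → n = 0 := by
    intro n hn
    by_contra h0
    have h1 : (ffX k) ^ n = 1 := congrArg Units.val hn
    have h2 : (locX k) ^ n = 1 := ff_injective (by rw [map_pow, map_one]; exact h1)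
    exact not_isUnit_locX (IsUnit.of_pow_eq_one h2 h0)
  rcases le_total a b with hab | hab <;>
    obtain ⟨n, hn⟩ := Int.le.dest hab
  · have : (ffU k) ^ n = 1 := by
      rw [← hn, _root_.zpow_add, zpow_natCast] at h
      exact left_eq_mul.mp h
    have := key n this; omega
  · have : (ffU k) ^ n = 1 := by
      rw [← hn, _root_.zpow_add, zpow_natCast] at h
      exact mul_eq_left.mp h
    have := key n this; omega

/-- Characters of a torus, as a basis of its functions. -/
structure CharData (T : Over (Spec (CommRingCat.of k))) [GrpObj T] where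
  J : Type
  c : Module.Basis J k (Fn T)
  mul : ∀ (j : J) (R : Type u) [CommRing R] [Algebra k R] (g h : VecGrp.pt k R ⟶ T),
    pullFn (g * h) (c j) = pullFn g (c j) * pullFn h (c j)
  one : ∀ (j : J) (R : Type u) [CommRing R] [Algebra k R], pullFn (1 : VecGrp.pt k R ⟶ T) (c j) = 1
  separates : Function.Injective fun (j : J) (g : VecGrp.pt k k ⟶ T) => pullFn g (c j)

theorem exists_unit_zpow_ne_one [IsAlgClosed k] {d : ℤ} (hd : d ≠ 0) : ∃ t : kˣ, t ^ d ≠ 1 := by
  classical
  have hn : 0 < d.natAbs := Int.natAbs_pos.mpr hd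
  have hfin : {x : k | x ^ d.natAbs = 1}.Finite := by
    have : {x : k | x ^ d.natAbs = 1} = {x | x ∈ Polynomial.nthRoots d.natAbs (1 : k)} := by
      ext x; simp [Polynomial.mem_nthRoots hn]
    rw [this]
    exact (Polynomial.nthRoots d.natAbs (1 : k)).toFinset.finite_toSet.subset fun x hx => by simpa using hx
  obtain ⟨x, hx, hx0⟩ := (Set.infinite_univ.sdiff (hfin.union (Set.finite_singleton (0 : k)))).nonempty
  have hx1 : x ≠ 0 := fun h => hx0 (Or.inr h)
  have hx2 : x ^ d.natAbs ≠ 1 := fun h => hx0 (Or.inl h)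
  refine ⟨Units.mk0 x hx1, fun h => hx2 ?_⟩
  generalize hd' : d.natAbs = N
  rcases Int.natAbs_eq d with e | e <;> rw [hd'] at e
  · rw [e, zpow_natCast] at h
    exact congrArg Units.val h
  · rw [e, _root_.zpow_neg, inv_eq_one, zpow_natCast] at h
    exact congrArg Units.val h

/-- The functions on a split torus. -/
theorem exists_charData [IsAlgClosed k] (T : Over (Spec (CommRingCat.of k))) [GrpObj T] (hT : Red.IsTorus T) :
    Nonempty (CharData T) := by
  obtain ⟨n, ⟨e⟩⟩ := RedSub30.exists_splitTorus_iso T hT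
  let A := MonoidAlgebra k (Multiplicative (Fin n → ℤ))
  let e' : sp k A ≅ T := (Grp.forget _).mapIso e
  have : IsMonHom e'.inv := e.inv.hom.isMonHom_hom
  let inA : A →ₐ[k] Fn (VecGrp.pt k A) :=
    { (Scheme.ΓSpecIso (CommRingCat.of A)).inv.hom with
      commutes' := fun r => by
        show (Scheme.ΓSpecIso (CommRingCat.of A)).inv ((algebraMap k A) r) =
          (Spec.map (CommRingCat.ofHom (algebraMap k A))).appTop ((Scheme.ΓSpecIso (CommRingCat.of k)).inv r)
        exact ConcreteCategory.congr_hom (Scheme.ΓSpecIso_inv_naturality (CommRingCat.ofHom (algebraMap k A))) r }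
  let φ : A →ₐ[k] Fn T := (ev (e'.inv : T ⟶ VecGrp.pt k A)).comp inA
  have hφ : Function.Bijective φ := by
    have h2 : Function.Bijective inA := ConcreteCategory.bijective_of_isIso (Scheme.ΓSpecIso (CommRingCat.of A)).inv
    refine Function.Bijective.comp (g := ev (e'.inv : T ⟶ VecGrp.pt k A)) ?_ h2
    refine Function.bijective_iff_has_inverse.mpr ⟨ev e'.hom, fun f => ?_, fun f => ?_⟩
    · show ev e'.hom (ev e'.inv f) = f
      rw [GrpSchLib.Kunneth.ev_ev, e'.hom_inv_id]; rfl
    · show ev e'.inv (ev e'.hom f) = f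
      rw [GrpSchLib.Kunneth.ev_ev, e'.inv_hom_id]; rfl
  let b := (MonoidAlgebra.basis (Multiplicative (Fin n → ℤ)) k).map (AlgEquiv.ofBijective φ hφ).toLinearEquiv
  have hb : ∀ (m) (R : Type u) [CommRing R] [Algebra k R] (g : VecGrp.pt k R ⟶ T) (ψ : A →ₐ[k] R),
      g ≫ e'.inv = spMap ψ → pullFn g (b m) = ψ (MonoidAlgebra.single m 1) := by
    intro m R _ _ g ψ hψ
    show pullFn g (φ (MonoidAlgebra.basis _ k m)) = _
    rw [MonoidAlgebra.basis_apply, GrpSchLib.Kunneth.pullFn_apply]
    show (Scheme.ΓSpecIso (CommRingCat.of R)).hom (ev g (ev e'.inv (inA _))) = _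
    rw [GrpSchLib.Kunneth.ev_ev]
    show (Scheme.ΓSpecIso (CommRingCat.of R)).hom ((g ≫ e'.inv).left.appTop _) = _
    rw [hψ]
    show (Scheme.ΓSpecIso (CommRingCat.of R)).hom ((Spec.map (CommRingCat.ofHom ψ.toRingHom)).appTop
      ((Scheme.ΓSpecIso (CommRingCat.of A)).inv _)) = _
    rw [← CommRingCat.comp_apply _ (Spec.map (CommRingCat.ofHom ψ.toRingHom)).appTop,
      ← Scheme.ΓSpecIso_inv_naturality, CommRingCat.comp_apply]
    exact Iso.inv_hom_id_apply (Scheme.ΓSpecIso (CommRingCat.of R)) _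
  refine ⟨⟨Multiplicative (Fin n → ℤ), b, fun m R _ _ g h => ?_, fun m R _ _ => ?_, fun m m' hmm => ?_⟩⟩
  · obtain ⟨ψ, hψ⟩ := GrpSchLib.AffineHopf.exists_eq_spMap (g ≫ e'.inv : sp k R ⟶ sp k A)
    obtain ⟨ψ', hψ'⟩ := GrpSchLib.AffineHopf.exists_eq_spMap (h ≫ e'.inv : sp k R ⟶ sp k A)
    have he : (g * h) ≫ e'.inv = spMap (toConv ψ * toConv ψ').ofConv := by
      rw [MonObj.mul_comp]
      exact (congrArg₂ (· * ·) hψ hψ').trans (GrpSchLib.AffineHopf.spMap_mul ψ ψ')
    rw [hb m R (g * h) _ he, hb m R g ψ hψ, hb m R h ψ' hψ', AlgHom.convMul_apply, MonoidAlgebra.comul_single]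
    simp
  · have h1 : (1 : VecGrp.pt k R ⟶ T) ≫ e'.inv =
        spMap ((Algebra.ofId k R).comp (Bialgebra.counitAlgHom k A)) := by
      rw [MonObj.one_comp, GrpSchLib.AffineHopf.spMap_eq_mapMulEquiv]
      exact (map_one _).symm
    rw [hb m R 1 _ h1]
    show algebraMap k R (Coalgebra.counit (R := k) (MonoidAlgebra.single m (1 : k))) = 1
    simp [MonoidAlgebra.counit_single]
  · by_contra hne
    obtain ⟨i, hi⟩ := Function.ne_iff.mp fun h : m.toAdd = m'.toAdd => hne (Multiplicative.toAdd.injective h)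
    obtain ⟨t, ht⟩ := exists_unit_zpow_ne_one (k := k) (d := m.toAdd i - m'.toAdd i) (sub_ne_zero.mpr hi)
    let χ : Multiplicative (Fin n → ℤ) →* k :=
      (Units.coeHom k).comp
        { toFun := fun p => t ^ p.toAdd i
          map_one' := by simp
          map_mul' := fun p q => by simp [_root_.zpow_add] }
    let ψ := MonoidAlgebra.lift k k (Multiplicative (Fin n → ℤ)) χ
    have hg : ((spMap ψ : sp k k ⟶ sp k A) ≫ e'.hom) ≫ e'.inv = spMap ψ := by
      rw [Category.assoc, e'.hom_inv_id, Category.comp_id]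
    have h1 := congrFun hmm (spMap ψ ≫ e'.hom : VecGrp.pt k k ⟶ T)
    simp only at h1
    rw [hb m k _ ψ hg, hb m' k _ ψ hg] at h1
    have hψ : ∀ p, ψ (MonoidAlgebra.single p 1) = χ p := fun p => by
      refine (MonoidAlgebra.lift_single _ _ _).trans ?_
      exact one_smul k _
    rw [hψ, hψ] at h1
    refine ht ?_
    rw [_root_.zpow_sub, mul_inv_eq_one]
    exact Units.ext h1

variable {G V T : Over (Spec (CommRingCat.of k))} [GrpObj G] [GrpObj T]

theorem isAffineHom_of_isTorus [IsAlgClosed k] (hT : Red.IsTorus T) : IsAffineHom T.hom :=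
  (TransLib.multTypeFT_essFree (GrpSchLib.RankOne.isMultTypeFT_of_isTorus hT)).1

/-- Expansion of a function along the characters of a torus acting. -/
theorem CharData.exists_expand (D : CharData T) [QuasiCompact T.hom] [IsSeparated T.hom] [QuasiCompact V.hom]
    [IsSeparated V.hom] (i : T ⟶ G) (Φ : AlgGrp.Action G V) (f : Fn V) :
    ∃ (s : Finset D.J) (w : D.J → Fn V), ∀ (R : Type u) [CommRing R] [Algebra k R] (g : VecGrp.pt k R ⟶ T)
      (v : VecGrp.pt k R ⟶ V),
      pullFn (lift (g ≫ i) v ≫ Φ.act) f = ∑ j ∈ s, pullFn g (D.c j) * pullFn v (w j) := by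
  obtain ⟨s, w, hw⟩ := GrpSchLib.Kunneth.exists_expand (X := V) (Y := T) D.c
    (ev (lift (snd V T ≫ i) (fst V T) ≫ Φ.act) f)
  refine ⟨s, w, fun R _ _ g v => ?_⟩
  have h1 := congrArg (fun z => (Scheme.ΓSpecIso (CommRingCat.of R)).hom (ev (lift v g) z)) hw
  simp only [map_sum, map_mul, GrpSchLib.Kunneth.ev_ev, lift_fst, lift_snd, ← Category.assoc, comp_lift] at h1
  refine h1.trans (Finset.sum_congr rfl fun j _ => ?_)
  rw [GrpSchLib.Kunneth.pullFn_apply, GrpSchLib.Kunneth.pullFn_apply, mul_comm]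

/-- Distinct characters are independent on rational points. -/
theorem CharData.indep (D : CharData T) {K : Type u} [Field K] [Algebra k K] (s : Finset D.J) (z : D.J → K)
    (h : ∀ t : VecGrp.pt k k ⟶ T, ∑ j ∈ s, algebraMap k K (pullFn t (D.c j)) * z j = 0) :
    ∀ j ∈ s, z j = 0 := by
  classical
  let χ : D.J → ((VecGrp.pt k k ⟶ T) →* K) := fun j =>
    { toFun := fun t => algebraMap k K (pullFn t (D.c j))
      map_one' := by rw [D.one, map_one]
      map_mul' := fun g g' => by rw [D.mul, map_mul] }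
  have hinj : Function.Injective χ := fun j j' hjj => D.separates (funext fun t =>
    (algebraMap k K).injective (DFunLike.congr_fun hjj t))
  have hli := (linearIndependent_monoidHom (VecGrp.pt k k ⟶ T) K).comp χ hinj
  exact linearIndependent_iff'.mp hli s z (funext fun t => by
    simp only [Finset.sum_apply, Pi.smul_apply, smul_eq_mul, Pi.zero_apply, Function.comp_apply]
    refine Eq.trans (Finset.sum_congr rfl fun j _ => ?_) (h t)
    rw [mul_comm]
    rfl)

/-- The pairing of a character with a one-parameter subgroup. -/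
theorem CharData.exists_pairing (D : CharData T) (j : D.J) (l : Red.Gm (Spec (CommRingCat.of k)) ⟶ T) [IsMonHom l] :
    ∃ d : ℤ, ∀ (R : Type u) [CommRing R] [Algebra k R] (g : VecGrp.pt k R ⟶ Red.Gm (Spec (CommRingCat.of k))),
      pullFn (g ≫ l) (D.c j) = ((gmVal g ^ d : Rˣ) : R) := by
  obtain ⟨d, hd⟩ := exists_zpow_gm (ev l (D.c j))
    (fun R _ _ g h => by
      show pullFn ((g * h) ≫ l) (D.c j) = pullFn (g ≫ l) (D.c j) * pullFn (h ≫ l) (D.c j)
      rw [MonObj.mul_comp, D.mul])
    (fun R _ _ => by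
      show pullFn ((1 : VecGrp.pt k R ⟶ Red.Gm _) ≫ l) (D.c j) = 1
      rw [MonObj.one_comp, D.one])
  refine ⟨d, fun R _ _ g => ?_⟩
  rw [GrpSchLib.Kunneth.pullFn_apply, ← GrpSchLib.Kunneth.ev_ev, hd, gmVal, ← map_zpow]
  rfl

/-- The pairing of a character with a one-parameter subgroup. -/
noncomputable def CharData.pair (D : CharData T) (j : D.J) (l : Red.Gm (Spec (CommRingCat.of k)) ⟶ T) : ℤ :=
  open scoped Classical in
  if h : ∃ d : ℤ, ∀ (R : Type u) [CommRing R] [Algebra k R] (g : VecGrp.pt k R ⟶ Red.Gm (Spec (CommRingCat.of k))),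
      pullFn (g ≫ l) (D.c j) = ((gmVal g ^ d : Rˣ) : R) then h.choose else 0

theorem CharData.pair_spec (D : CharData T) (j : D.J) (l : Red.Gm (Spec (CommRingCat.of k)) ⟶ T) [IsMonHom l]
    (R : Type u) [CommRing R] [Algebra k R] (g : VecGrp.pt k R ⟶ Red.Gm (Spec (CommRingCat.of k))) :
    pullFn (g ≫ l) (D.c j) = ((gmVal g ^ D.pair j l : Rˣ) : R) := by
  rw [CharData.pair, dif_pos (D.exists_pairing j l)]
  exact (D.exists_pairing j l).choose_spec R g

theorem CharData.pair_mul (D : CharData T) (j : D.J) (l₁ l₂ : Red.Gm (Spec (CommRingCat.of k)) ⟶ T) [IsMonHom l₁]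
    [IsMonHom l₂] : D.pair j (l₁ * l₂) = D.pair j l₁ + D.pair j l₂ := by
  have hsum : ∀ (R : Type u) [CommRing R] [Algebra k R] (g : VecGrp.pt k R ⟶ Red.Gm (Spec (CommRingCat.of k))),
      pullFn (g ≫ (l₁ * l₂)) (D.c j) = ((gmVal g ^ (D.pair j l₁ + D.pair j l₂) : Rˣ) : R) := fun R _ _ g => by
    rw [MonObj.comp_mul, D.mul, D.pair_spec j l₁, D.pair_spec j l₂, _root_.zpow_add, Units.val_mul]
  refine pow_ffX_injective (k := k) (Units.ext ?_)
  have h : ∃ d : ℤ, ∀ (R : Type u) [CommRing R] [Algebra k R] (g : VecGrp.pt k R ⟶ Red.Gm (Spec (CommRingCat.of k))),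
      pullFn (g ≫ (l₁ * l₂)) (D.c j) = ((gmVal g ^ d : Rˣ) : R) := ⟨_, hsum⟩
  rw [CharData.pair, dif_pos h]
  have h1 := h.choose_spec (FF k) (gmPt (ffU k))
  rw [hsum (FF k) (gmPt (ffU k)), gmVal_gmPt] at h1
  exact h1.symm

end Groth.Agent.HMSec
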